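import Cfsg.Agent.Lib.G14.Base
import Cfsg.Agent.Lib.T3.Fac
import Cfsg.Agent.Lib.T2.Pair
import Cfsg.Agent.Lib.PU.GN
import Cfsg.Agent.Lib.PGroup.AutGL

/-!
# S3114: additions to the graph calculus
-/

set_option autoImplicit false

namespace Cfsg.Lib.G14

open Cfsg.Lib.Calc Cfsg.Lib.Grp Cfsg.Lib.T2 Cfsg.Lib.T3 Cfsg.Lib.BG Cfsg.Lib.Mathieu Subgroup
open scoped Cfsg.Lib.Transfer

universe u

variable {G : Type u} [Group G] {γ : ℕ → G}

/-- the relator has the form `a c⁻¹` with `c` over `ts` -/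
def fmB (a : W) (ts : List W) : W → Bool
  | .mul x (.inv c) => x.beq a && c.overW ts
  | _ => false

/-- the relators contain a polycyclic presentation -/
def pcA (rels : List W) : List W → Bool
  | [] => true
  | t :: ts => rels.any (fmB (.mul t t) ts) && ts.all (fun a => rels.any (fmB (cj t a) ts)) && pcA rels ts

theorem mem_of_fmB (h0 : γ 0 = 1) {rels ts : List W} (h : ∀ r ∈ rels, r.ev γ = 1) {a : W}
    (e : rels.any (fmB a ts) = true) : a.ev γ ∈ genW γ ts := by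
  obtain ⟨r, hr, e⟩ := List.any_eq_true.1 e
  have := h r hr
  unfold fmB at e
  split at e
  · rw [Bool.and_eq_true] at e
    rw [← W.eq_of_beq e.1, mul_inv_eq_one.1 this]
    exact W.ev_mem_of_overW h0 (fun _ => mem_genW γ) e.2
  · exact absurd e Bool.false_ne_true

theorem card_sup_zp [Finite G] {E : Subgroup G} {x : G} (hx : x ∈ 𝐍(E)) (h2 : x * x ∈ E) :
    Nat.card ↥(E ⊔ zpowers x) ≤ 2 * Nat.card E := by
  have a := PGroup.card_sup_mul_card_inf (H := E) (K := zpowers x) (zpowers_le.2 hx)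
  have b : Nat.card (zpowers x) ≤ 2 * Nat.card ↥(E ⊓ zpowers x) := by
    refine le_trans ?_ (Nat.mul_le_mul_left 2 (card_le_of_le (H := zpowers (x ^ 2))
      (zpowers_le.2 ⟨pow_two x ▸ h2, pow_mem (mem_zpowers x) 2⟩)))
    rw [Nat.card_zpowers, Nat.card_zpowers, orderOf_pow]
    have := Nat.gcd_dvd_left (orderOf x) 2
    calc orderOf x = Nat.gcd (orderOf x) 2 * (orderOf x / Nat.gcd (orderOf x) 2) := (Nat.mul_div_cancel' this).symm
      _ ≤ _ := Nat.mul_le_mul_right _ (Nat.gcd_le_right _ two_pos)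
  refine Nat.le_of_mul_le_mul_right (a.le.trans ?_) (Nat.card_pos (α := ↥(E ⊓ zpowers x)))
  calc _ ≤ Nat.card E * (2 * Nat.card ↥(E ⊓ zpowers x)) := Nat.mul_le_mul_left _ b
    _ = _ := by ring

theorem genW_cons (γ : ℕ → G) (t : W) (ts : List W) : genW γ (t :: ts) = genW γ ts ⊔ zpowers (t.ev γ) :=
  le_antisymm (genW_le.2 (List.forall_mem_cons.2 ⟨mem_sup_right (mem_zpowers _), fun _ ht => mem_sup_left (mem_genW γ ht)⟩))
    (sup_le (genW_mono γ (List.subset_cons_self _ _)) (zpowers_le.2 (mem_genW γ List.mem_cons_self)))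

theorem pc_le [Finite G] (h0 : γ 0 = 1) {rels : List W} (h : ∀ r ∈ rels, r.ev γ = 1) :
    ∀ {ts : List W}, pcA rels ts = true → Nat.card (genW γ ts) ≤ 2 ^ ts.length
  | [], _ => by simp [genW_nil]
  | t :: ts, e => by
    simp only [pcA, Bool.and_eq_true] at e
    have n : t.ev γ ∈ 𝐍(genW γ ts) := genW_le_normalizer (A := [t]) (List.forall_mem_singleton.2 fun a ha =>
      mem_of_fmB h0 h (a := cj t a) (List.all_eq_true.1 e.1.2 a ha)) (mem_genW γ (.head _))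
    rw [genW_cons, List.length_cons, pow_succ']
    exact (card_sup_zp n (mem_of_fmB h0 h (a := .mul t t) e.1.1)).trans (Nat.mul_le_mul_left _ (pc_le h0 h e.2))

variable {P : PM} [NeZero P.n] {k j : ℕ} {N : List W}

/-- the normalizer of the graph -/
abbrev ND (P : PM) [NeZero P.n] (γ : ℕ → G) (k : ℕ) : Subgroup (G × Equiv.Perm (Fin P.n)) := 𝐍(Dg P γ k)

/-- the check for polycyclic presentations -/
noncomputable def pcC (P : PM) (rels : List W) (k : ℕ) : Bool :=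
  band (pcA rels (P.ws k)) (band (P.relsB rels) (Nat.ble (2 ^ (P.ws k).length) (chSize (P.Ls k))))

theorem dg_bound [Finite G] (ok : P.OK) (h0 : γ 0 = 1) {rels : List W} (hr : ∀ t ∈ rels, t.ev γ = 1)
    (e : pcC P rels k = true) : (Nat.card (Dg P γ k) ≠ 0 ∧ Nat.card (Dg P γ k) ≤ 2 ^ (P.ws k).length) ∧
      2 ^ (P.ws k).length ≤ Nat.card (P.K k) := by
  rw [pcC, band_eq_true, band_eq_true, ble_iff, ← ok.card] at e
  exact ⟨⟨Nat.card_pos.ne', pc_le (γ := pr γ P.gam) (Prod.ext h0 ok.zero) (rels_prod hr (ok.rels e.2.1)) e.1⟩, e.2.2⟩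

theorem of_pc_card [Finite G] (ok : P.OK) (h0 : γ 0 = 1) {rels : List W} (hr : ∀ t ∈ rels, t.ev γ = 1)
    (h : 2 ^ (P.ws k).length ≤ Nat.card (genW γ (P.ws k))) (e : pcC P rels k = true := by decide +kernel) : Gf P γ k [] :=
  have b := dg_bound ok h0 hr e
  ⟨ok, h0, fun p hp => ⟨fst_inj b.1 (fun _ => exists_snd) h p hp, snd_inj b.1 (fun _ => exists_fst) b.2 p hp⟩, nil_all⟩

theorem of_pc [Finite G] (ok : P.OK) (h0 : γ 0 = 1) {rels : List W} (hr : ∀ t ∈ rels, t.ev γ = 1) {cs : List W}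
    (hc : ∀ t ∈ cs, t.ev γ ≠ 1) (e : band (band (pcC P rels k) (cs.all (fun c => c.overW (P.ws k) && avoid 40 c)))
      (band ((P.ws k).all (avoid 40)) (P.eval (.all k 40 ((P.ws k).map fun c => (c, c))
        (.imp (.one (.mul (.l 40) (.l 40))) (orEq 40 (.l 0 :: cs)))))) = true := by decide +kernel) : Gf P γ k [] := by
  rw [band_eq_true, band_eq_true, band_eq_true] at e
  have b := dg_bound ok h0 hr e.1.1
  have s := snd_inj b.1 (fun _ => exists_fst) b.2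
  refine ⟨ok, h0, fun p hp => ⟨fun f => ?_, s p hp⟩, nil_all⟩
  have pg : IsPGroup 2 (Dg P γ k) := .of_card (le_antisymm b.1.2 (b.2.trans (Nat.card_le_card_of_surjective
    (fun p : Dg P γ k => (⟨p.1.2, snd_mem p.2⟩ : P.K k)) fun q => let ⟨_, e⟩ := exists_fst (γ := γ) q.2; ⟨⟨_, e⟩, rfl⟩)))
  by_contra ne
  obtain ⟨⟨q, hq⟩, q1⟩ := (ne_bot_iff_exists_ne_one.1 (PU.inf_center_ne_bot pg
    (N := ((MonoidHom.fst _ _).comp (Dg P γ k).subtype).ker) fun e' =>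
      ne (congrArg (fun x : Dg P γ k => x.1.2) (mem_bot.1 (e'.le (show (⟨p, hp⟩ : Dg P γ k) ∈ _ from f))))))
  obtain ⟨y, hy, y1, y2⟩ : ∃ y ∈ zpowers q, y ≠ 1 ∧ y * y = 1 := by
    obtain ⟨n, hn⟩ := IsPGroup.iff_orderOf.1 pg q
    obtain ⟨y, hy⟩ := exists_prime_orderOf_dvd_card' (G := zpowers q) 2 (by
      rw [Nat.card_zpowers, hn]
      exact dvd_pow_self 2 fun e' => q1 (Subtype.ext (orderOf_eq_one_iff.1 (by rw [hn, e', pow_zero]))))
    exact ⟨y, y.2, fun e' => by rw [show y = 1 from Subtype.ext e', orderOf_one] at hy; omega,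
      congrArg Subtype.val (show y * y = 1 by rw [← pow_two, ← hy, pow_orderOf_eq_one])⟩
  have m := zpowers_le.2 hq hy
  have f1 : y.1.1 = 1 := m.1
  obtain ⟨c, hc', e'⟩ := orEq_iff.1 (imps_iff.1 (ok.holds e.2.2 y.1.2 (snd_mem y.2)) (fun r hr => by
    obtain ⟨c, hc, rfl⟩ := List.mem_map.1 hr
    exact congrArg (fun x : Dg P γ k => x.1.2) (mem_center_iff.1 m.2 ⟨_, mem_pair hc⟩).symm)
    (show T2.upd _ 40 _ 40 * T2.upd _ 40 _ 40 = 1 by
      rw [upd_self]; exact congrArg (fun x : Dg P γ k => x.1.2) y2))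
  rw [upd_self] at e'
  rcases List.mem_cons.1 hc' with rfl | hc'
  · exact y1 (Subtype.ext (Prod.ext f1 (e'.trans ok.zero)))
  · have a := Bool.and_eq_true_iff.1 (List.all_eq_true.1 e.1.2 c hc')
    rw [ev_upd a.2] at e'
    have := s _ (mul_mem (ov_mem (γ := γ) (Prod.ext h0 ok.zero) (fun _ => mem_pair) a.1) (inv_mem y.2))
      (by change _ * y.1.2⁻¹ = 1; rw [e', mul_inv_cancel])
    exact hc c hc' ((mul_inv_eq_one.1 this).trans f1)

/-- every automorphism of subgroup `k` is induced by subgroup `j` -/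
def Full (P : PM) [NeZero P.n] (k j : ℕ) : Prop :=
  ∀ α : MulAut (P.K k), ∃ m ∈ P.K j, ∀ a : P.K k, (α a : Equiv.Perm (Fin P.n)) = m * a * m⁻¹

theorem full_of_card (ok : P.OK) (hn : P.K j ≤ 𝐍(P.K k)) (i : ℕ) {n : ℕ} (c : Nat.card (MulAut (P.K k)) ≤ n)
    (e : band (Nat.ble (n * chSize (P.Ls i)) (chSize (P.Ls j)))
      (P.eval (.all j 40 ((P.ws k).map fun c => (c, c)) (.mem i (.l 40)))) = true := by decide +kernel) : Full P k j := by
  rw [band_eq_true, ble_iff, ← ok.card, ← ok.card] at e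
  let φ := (P.K k).normalizerMonoidHom.comp (inclusion hn)
  have a := φ.ker.card_mul_index
  rw [index_ker] at a
  have b : Nat.card φ.ker ≤ Nat.card (P.K i) := Nat.card_le_card_of_injective
    (fun x : φ.ker => (⟨x.1.1, imps_iff.1 (ok.holds e.2 _ x.1.2) fun r hr => by
      obtain ⟨c, hc, rfl⟩ := List.mem_map.1 hr
      exact mul_inv_eq_iff_eq_mul.1 (congrArg Subtype.val (MulEquiv.congr_fun x.2 ⟨_, mem_genW _ hc⟩))⟩ : P.K i))
    fun x y h => Subtype.ext (Subtype.ext (congrArg (Subtype.val : P.K i → _) h))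
  have t : φ.range = ⊤ := eq_top_of_le_card _ (c.trans (Nat.le_of_mul_le_mul_right (e.1.trans (a.ge.trans
    (by rw [mul_comm]; exact Nat.mul_le_mul_left _ b))) Nat.card_pos))
  intro α
  obtain ⟨m, hm⟩ := t.ge (mem_top α)
  exact ⟨m, m.2, fun a => by rw [← hm]; rfl⟩

namespace Gf

variable (g : Gf P γ k N)
include g

/-- first projection -/
noncomputable def f1 : Dg P γ k ≃* genW γ (P.ws k) := MulEquiv.ofBijective
  (((MonoidHom.fst _ _).comp (Dg P γ k).subtype).codRestrict _ fun p => fst_mem p.2)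
  ⟨(injective_iff_map_eq_one _).2 fun p e => Subtype.ext (Prod.ext (congrArg Subtype.val e)
    ((g.inj _ p.2).1 (congrArg Subtype.val e))), fun q => let ⟨_, e⟩ := exists_snd (γ' := P.gam) q.2; ⟨⟨_, e⟩, rfl⟩⟩

/-- second projection -/
noncomputable def f2 : Dg P γ k ≃* P.K k := MulEquiv.ofBijective
  (((MonoidHom.snd _ _).comp (Dg P γ k).subtype).codRestrict _ fun p => snd_mem p.2)
  ⟨(injective_iff_map_eq_one _).2 fun p e => Subtype.ext (Prod.ext ((g.inj _ p.2).2 (congrArg Subtype.val e))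
    (congrArg Subtype.val e)), fun q => let ⟨_, e⟩ := exists_fst (γ := γ) q.2; ⟨⟨_, e⟩, rfl⟩⟩

variable [Finite G] {x y : G} {m n : Equiv.Perm (Fin P.n)}

theorem pair (h : Full P k j) (hx : x ∈ 𝐍(genW γ (P.ws k))) : ∃ m ∈ P.K j, (x, m) ∈ ND P γ k := by
  obtain ⟨b, hb, e⟩ := h (MulAut.congr ((f1 g).symm.trans (f2 g)) ((genW γ (P.ws k)).normalizerMonoidHom ⟨x, hx⟩))
  refine ⟨b, hb, mem_normalizer_fintype fun p hp => ?_⟩
  refine (?_ : _ = (x, b) * p * (x, b)⁻¹) ▸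
    ((f1 g).symm ((genW γ (P.ws k)).normalizerMonoidHom ⟨x, hx⟩ (f1 g ⟨p, hp⟩))).2
  refine Prod.ext (congrArg Subtype.val ((f1 g).apply_symm_apply
    ((genW γ (P.ws k)).normalizerMonoidHom ⟨x, hx⟩ (f1 g ⟨p, hp⟩)))) ?_
  refine Eq.trans ?_ (e (f2 g ⟨p, hp⟩))
  exact congrArg (fun y => (f2 g ((f1 g).symm ((genW γ (P.ws k)).normalizerMonoidHom ⟨x, hx⟩ (f1 g y))) :
    Equiv.Perm (Fin P.n))) ((f2 g).symm_apply_apply _).symm

omit g [Finite G] in
theorem nfst (h : (x, m) ∈ ND P γ k) : x ∈ 𝐍(genW γ (P.ws k)) := mem_normalizer_iff.2 fun _ =>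
  ⟨fun ha => let ⟨_, e⟩ := exists_snd (γ' := P.gam) ha; fst_mem (conj_pair h e), fun ha => by
    obtain ⟨_, e⟩ := exists_snd (γ' := P.gam) ha
    simpa [mul_assoc] using fst_mem (conj_pair (inv_mem h : (x⁻¹, m⁻¹) ∈ _) e)⟩

omit [Finite G] in
theorem cen_iff (h : (x, m) ∈ ND P γ k) : x ∈ 𝐂(genW γ (P.ws k)) ↔ m ∈ 𝐂(P.K k) :=
  ⟨fun c _ hb => let ⟨_, e⟩ := exists_fst (γ := γ) hb; ((comm_iff g.inj e h).1 (c _ (fst_mem e)).symm).symm,
    fun c _ hb => let ⟨_, e⟩ := exists_snd (γ' := P.gam) hb; ((comm_iff g.inj e h).2 (c _ (snd_mem e)).symm).symm⟩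

omit [Finite G] in
/-- two elements with the same partner -/
theorem same (h : (x, m) ∈ ND P γ k) (h' : (y, m) ∈ ND P γ k) : x * y⁻¹ ∈ 𝐂(genW γ (P.ws k)) :=
  (cen_iff g (m := m * m⁻¹) (mul_mem h (inv_mem h'))).2 (by rw [mul_inv_cancel]; exact one_mem _)

omit [Finite G] in
theorem cx40 (h : (x, m) ∈ ND P γ k) (e : (.l 0 :: P.ws k ++ N).all (avoid 40) = true) :
    Cx (Dg P γ k) (T2.upd γ 40 x) (T2.upd P.gam 40 m) (P.ws k) (.l 40 :: N) :=
  have c := g.cx.upd e x m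
  ⟨c.zero, c.inS, List.forall_mem_cons.2 ⟨h, c.inN⟩⟩

omit [Finite G] in
/-- transfer of a formula with a variable in the normalizer -/
theorem trV (h : (x, m) ∈ ND P γ k) {φ : Fm} (hφ : φ.holds P.K (T2.upd P.gam 40 m))
    (e : ((.l 0 :: P.ws k ++ N).all (avoid 40) && ty (fun j => (P.ws j).all (av (P.ws k) N)) φ (P.ws k) (.l 40 :: N)) = true :=
      by decide +kernel) : φ.holds (fun k => genW γ (P.ws k)) (T2.upd γ 40 x) :=
  have e := Bool.and_eq_true_iff.1 e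
  (Cx.holds_iff g.inj (fun _ hk _ ha => let ⟨b, m⟩ := exists_snd (γ' := P.gam) ha; ⟨b, snd_mem m, g.dg_le hk m⟩)
    (fun _ hk _ hb => let ⟨a, m⟩ := exists_fst (γ := γ) hb; ⟨a, fst_mem m, g.dg_le hk m⟩) φ (cx40 g h e.1) e.2).2 hφ

omit [Finite G] in
/-- change of coordinates -/
theorem recoord {c : Equiv.Perm (Fin P.n)} (hc : c ∈ 𝐍(P.K k)) {cs : List ℕ} (e : P.ws k = cs.map .l) :
    ∃ γ' : ℕ → G, Gf P γ' k [] ∧ genW γ' (P.ws k) = genW γ (P.ws k) ∧
      ∀ x m, (x, m) ∈ ND P γ k → (x, c * m * c⁻¹) ∈ ND P γ' k := by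
  classical
  have ex : ∀ b ∈ P.K k, ∃ a, (a, c⁻¹ * b * c) ∈ Dg P γ k := fun b hb =>
    exists_fst (show _ ∈ P.K k by simpa using mem_normalizer_iff.1 (inv_mem hc) b |>.1 hb)
  let Δ : Subgroup (G × Equiv.Perm (Fin P.n)) := ((1 : G), c) ⋆ Dg P γ k
  have mΔ : ∀ {a b}, (a, b) ∈ Δ ↔ (a, c⁻¹ * b * c) ∈ Dg P γ k := fun {a b} => by
    rw [Transfer.mem_conj]; simp
  let γ' : ℕ → G := fun i => if h : i ≠ 0 ∧ P.gam i ∈ P.K k then (ex _ h.2).choose else 1
  have m : ∀ t ∈ P.ws k, (t.ev γ', t.ev P.gam) ∈ Δ := fun t ht => by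
    have a : t.ev P.gam ∈ P.K k := mem_genW _ ht
    obtain ⟨i, -, rfl⟩ := List.mem_map.1 (e ▸ ht)
    by_cases h : i = 0
    · subst h
      rw [ev_l, ev_l, g.ok.zero, show γ' 0 = 1 from dif_neg fun h => h.1 rfl]; exact one_mem _
    · rw [ev_l, ev_l, show γ' i = _ from dif_pos ⟨h, a⟩]; exact mΔ.2 (ex _ a).choose_spec
  have inj : ∀ p ∈ Δ, p.1 = 1 ↔ p.2 = 1 := fun p hp => (g.inj _ (mΔ.1 hp)).trans (by
    change c⁻¹ * p.2 * c = 1 ↔ _
    rw [← inv_inv c, inv_inv c⁻¹, conj_eq_one_iff])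
  have eq : Dg P γ' k = Δ := le_antisymm (pair_genW_le m) fun p hp => by
    obtain ⟨a, h⟩ := exists_fst (γ := γ') (b := p.2) (show _ ∈ P.K k by
      simpa [mul_assoc] using (mem_normalizer_iff.1 hc _).1 (snd_mem (mΔ.1 hp)))
    have := (inj _ (mul_mem hp (inv_mem (pair_genW_le m h)))).2 (mul_inv_cancel p.2)
    exact (Prod.ext (mul_inv_eq_one.1 this) rfl : p = (a, p.2)) ▸ h
  refine ⟨γ', ⟨g.ok, dif_neg fun h => h.1 rfl, eq ▸ inj, nil_all⟩, le_antisymm (genW_le.2 fun t ht => fst_mem (mΔ.1 (m t ht)))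
    fun a ha => ?_, fun x n h => ?_⟩
  · obtain ⟨b, h⟩ := exists_snd (γ' := P.gam) ha
    exact fst_mem (p := (a, c * b * c⁻¹)) (show _ ∈ Dg P γ' k from eq ▸ mΔ.2 (by simpa [mul_assoc] using h))
  · change _ ∈ 𝐍(Dg P γ' k)
    rw [eq, ← Transfer.conj_normalizer, Transfer.mem_conj]
    simpa [mul_assoc] using h

end Gf

end Cfsg.Lib.G14
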