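import Cfsg.Statements.S3114
import Cfsg.Agent.Lib.T3.Hlp
import Cfsg.Agent.Lib.N8.Core

/-!
# S3114: hypotheses, conclusion, presentations (helper24)

Letters of the `E`-configuration: `1 = z`, `2, 3 = u₀, u₁`, `4, 5 = b₀, b₁` (`E = 2^(1+4)_+`), `6 = d`, `7 = r`, `8 = f`, `9 = s`.
-/

set_option autoImplicit false

namespace Cfsg.Lib.G14

open Cfsg.Lib.Calc Cfsg.Lib.T2 Cfsg.Lib.T3 Cfsg.Lib.BG Subgroup

/-- the global hypotheses -/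
structure Hy (G : Type*) [Group G] : Prop where
  simple : IsSimpleGroup G
  nab : ¬ IsMulCommutative G
  sr : SectionalPRankLE 2 4 G
  sol : ∀ t : G, IsTwoCentralInvolution t → Group.IsSolvable (centralizer ({t} : Set G))

/-- the conclusion -/
def Concl (G : Type*) [Group G] : Prop :=
  (∃ (F : Type) (_ : Field F) (_ : Fintype F), Fintype.card F = 3 ∧
      (Nonempty (G ≃* Matrix.ProjectiveSpecialLinearGroup (Fin 4) F) ∨ Nonempty (G ≃* Cfsg.PSp 2 F) ∨ Nonempty (G ≃* ↥(Cfsg.Lie.chevG2.group F)))) ∨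
    (∃ (F : Type) (_ : Field F) (_ : Fintype F), Fintype.card F = 9 ∧ Nonempty (G ≃* Cfsg.PSU 4 F 3)) ∨
    (∃ (F : Type) (_ : Field F) (_ : Fintype F), Fintype.card F = 4 ∧ Nonempty (G ≃* Matrix.ProjectiveSpecialLinearGroup (Fin 3) F)) ∨
    (∃ n : ℕ, 8 ≤ n ∧ n ≤ 11 ∧ Nonempty (G ≃* ↥(alternatingGroup (Fin n)))) ∨ Cfsg.Spor.IsoM22 G

/-- `a b a⁻¹ = c` -/
abbrev rc (a b : ℕ) (c : W) : W := .mul (cj (.l a) (.l b)) (.inv c)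
/-- `a a = c` -/
abbrev rs (a : ℕ) (c : W) : W := .mul (.mul (.l a) (.l a)) (.inv c)
/-- product of two letters -/
abbrev m2 (a b : ℕ) : W := .mul (.l a) (.l b)
/-- product of three letters -/
abbrev m3 (a b c : ℕ) : W := .mul (.mul (.l a) (.l b)) (.l c)

/-- relations of `E` -/
def relE : List W := [rs 1 (.l 0), rs 2 (.l 0), rs 3 (.l 0), rs 4 (.l 0), rs 5 (.l 0), rc 2 1 (.l 1), rc 3 1 (.l 1),
  rc 3 2 (.l 2), rc 4 1 (.l 1), rc 4 2 (.l 2), rc 4 3 (m2 3 1), rc 5 1 (.l 1), rc 5 2 (m2 2 1), rc 5 3 (.l 3), rc 5 4 (.l 4)]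
/-- action of `r` on `E` -/
def actR : List W := [rc 7 1 (.l 1), rc 7 2 (.l 2), rc 7 3 (m2 2 3), rc 7 4 (.l 4), rc 7 5 (m2 4 5)]
/-- action of `f` on `E` -/
def actF : List W := [rc 8 1 (.l 1), rc 8 2 (.l 2), rc 8 3 (.l 3), rc 8 4 (m3 4 2 1), rc 8 5 (m3 5 3 1)]
/-- the Sylow subgroup of `M₂₂`: `r² = f² = 1`, `f r f⁻¹ = r z` -/
def rel22 : List W := relE ++ actR ++ actF ++ [rs 7 (.l 0), rs 8 (.l 0), rc 8 7 (m2 7 1)]
/-- `D₈ ≀ 2`: `r² = f² = 1`, `f r f⁻¹ = r` -/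
def relWD : List W := relE ++ actR ++ actF ++ [rs 7 (.l 0), rs 8 (.l 0), rc 8 7 (.l 7)]
/-- generators of `E ⟨r, f⟩` -/
def gen7 : List W := [.l 8, .l 7, .l 5, .l 4, .l 3, .l 2, .l 1]

/-- action of `ρ = r f` (letter 7) on `E` -/
def actP : List W := [rc 7 1 (.l 1), rc 7 2 (.l 2), rc 7 3 (m2 2 3), rc 7 4 (m3 4 2 1),
  rc 7 5 (.mul (m2 4 5) (m3 2 3 1))]
/-- generators of `E ⟨x⟩` -/
def gen6 (x : ℕ) : List W := [.l x, .l 5, .l 4, .l 3, .l 2, .l 1]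

/-! Letters of the `U`-configuration (`U` = Sylow subgroup of `L₃(4)`): `1, 2 = z₀, z₁`, `3, 4 = a₀, a₁`, `5, 6 = b₀, b₁`,
`7 = d`, `8 = φ` (field), `9 = y` (unitary), `10 = θ = φ y` (graph). -/

/-- relations of `U` -/
def relU : List W := [rs 1 (.l 0), rs 2 (.l 0), rs 3 (.l 0), rs 4 (.l 0), rs 5 (.l 0), rs 6 (.l 0), rc 2 1 (.l 1),
  rc 3 1 (.l 1), rc 3 2 (.l 2), rc 4 1 (.l 1), rc 4 2 (.l 2), rc 4 3 (.l 3), rc 5 1 (.l 1), rc 5 2 (.l 2), rc 5 3 (m2 3 1),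
  rc 5 4 (m3 4 1 2), rc 6 1 (.l 1), rc 6 2 (.l 2), rc 6 3 (m3 3 1 2), rc 6 4 (m2 4 2), rc 6 5 (.l 5)]
/-- action of `φ` on `U` -/
def actF8 : List W := [rc 8 1 (.l 1), rc 8 2 (m2 1 2), rc 8 3 (.l 3), rc 8 4 (m2 3 4), rc 8 5 (.l 5), rc 8 6 (m2 5 6)]
/-- action of `y` on `U` -/
def actY : List W := [rc 9 1 (.l 1), rc 9 2 (.l 2), rc 9 3 (.l 5), rc 9 4 (.l 6), rc 9 5 (.l 3), rc 9 6 (.l 4)]
/-- action of `θ` on `U` -/
def actT : List W := [rc 10 1 (.l 1), rc 10 2 (m2 1 2), rc 10 3 (.l 5), rc 10 4 (m2 5 6), rc 10 5 (.l 3), rc 10 6 (m2 3 4)]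
/-- generators of `U` -/
def genU : List W := [.l 6, .l 5, .l 4, .l 3, .l 2, .l 1]

theorem Hy.sol' {G : Type*} [Group G] [Finite G] (h : Hy G) {S : Subgroup G} (hS : Syl 2 S ⊤) {z : G} (z1 : z ≠ 1)
    (z2 : z * z = 1) (zS : z ∈ S) (c : ∀ x ∈ S, x * z = z * x) : Group.IsSolvable (centralizer ({z} : Set G)) := by
  obtain ⟨P, rfl⟩ := Syl.top_iff_sylow.1 hS
  exact h.sol z ⟨orderOf_eq_prime (by rw [pow_two, z2]) z1, P, zS, c⟩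

end Cfsg.Lib.G14
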