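import Cfsg.Agent.Lib.G14.Base

/-!
# S3114: collection in polycyclic presentations

Every rewriting step is an identity in the ambient group, whether or not the presentation is consistent.
-/

set_option autoImplicit false

namespace Cfsg.Lib.G14

open Cfsg.Lib.Calc Cfsg.Lib.Grp Cfsg.Lib.T2 Cfsg.Lib.T3 Cfsg.Lib.Mathieu Subgroup

variable {G : Type*} [Group G] {γ : ℕ → G}

/-- value of a list of letters -/
def lev (γ : ℕ → G) (l : List ℕ) : G := (l.map γ).prod

theorem lev_cons (a : ℕ) (l : List ℕ) : lev γ (a :: l) = γ a * lev γ l := List.prod_cons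
theorem lev_append (l l' : List ℕ) : lev γ (l ++ l') = lev γ l * lev γ l' := by simp [lev]

/-- the word of a list of letters -/
def wl : List ℕ → W
  | [] => .l 0
  | a :: l => .mul (.l a) (wl l)

theorem ev_wl (h0 : γ 0 = 1) : ∀ l : List ℕ, (wl l).ev γ = lev γ l
  | [] => h0
  | a :: l => by rw [lev_cons, ← ev_wl h0 l]; rfl

/-- words without inverses -/
def isPos : W → Bool
  | .l _ => true
  | .mul a b => isPos a && isPos b
  | _ => false

/-- the letters of a word -/
def pos : W → List ℕ
  | .l c => bif Nat.beq c 0 then [] else [c]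
  | .mul a b => pos a ++ pos b
  | _ => []

theorem lev_pos (h0 : γ 0 = 1) : ∀ {t : W}, isPos t = true → lev γ (pos t) = t.ev γ
  | .l c, _ => by
    cases c with
    | zero => exact h0.symm
    | succ c => exact mul_one _
  | .mul a b, h => by
    rw [isPos, Bool.and_eq_true] at h
    rw [pos, lev_append, lev_pos h0 h.1, lev_pos h0 h.2, ev_mul]

/-- a relator as an equation -/
def sides : W → W × W
  | .mul (.mul (.mul a b) (.inv d)) (.inv c) => (.mul a b, .mul c d)
  | .mul x (.inv c) => (x, c)
  | t => (t, .l 0)

theorem sides_iff (h0 : γ 0 = 1) (t : W) : t.ev γ = 1 ↔ (sides t).1.ev γ = (sides t).2.ev γ := by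
  unfold sides
  split
  · simp only [ev_mul, ev_inv, mul_inv_eq_iff_eq_mul, one_mul]
  · exact mul_inv_eq_one
  · rw [ev_l, h0]

/-- the rewriting rule of an equation -/
def rule : W × W → List ℕ
  | (.mul (.l a) (.l b), c) => bif isPos c then a :: b :: pos c else []
  | _ => []

/-- valid rules -/
def ROk (γ : ℕ → G) (R : List (List ℕ)) : Prop := ∀ a b l, a :: b :: l ∈ R → γ a * γ b = lev γ l

theorem rok (h0 : γ 0 = 1) {rels : List W} (h : ∀ t ∈ rels, t.ev γ = 1) : ROk γ (rels.map fun t => rule (sides t)) := by
  intro a b l m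
  obtain ⟨t, ht, e⟩ := List.mem_map.1 m
  have := (sides_iff h0 t).1 (h t ht)
  generalize sides t = p at e this
  unfold rule at e
  split at e
  · rename_i c
    cases hc : isPos c <;> rw [hc] at e
    · exact nomatch e
    · obtain ⟨rfl, rfl, rfl⟩ : _ ∧ _ ∧ _ := by simpa using e
      exact this.trans (lev_pos h0 hc).symm
  · exact nomatch e

/-- look a rule up -/
noncomputable def look {β : Type} (a b : ℕ) (no : β) (yes : List ℕ → β) (R : List (List ℕ)) : β :=
  List.rec no (fun r _ ih => List.casesOn r ih fun x r => Bool.rec ih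
    (List.casesOn r ih fun y r => Bool.rec ih (yes r) (Nat.beq y b)) (Nat.beq x a)) R

theorem look_ind {β : Type} {a b : ℕ} {no : β} {yes : List ℕ → β} {R : List (List ℕ)} {p : β → Prop} (h : p no)
    (h' : ∀ l, a :: b :: l ∈ R → p (yes l)) : p (look a b no yes R) := by
  induction R with
  | nil => exact h
  | cons r R ih =>
    have ih := ih fun l m => h' l (.tail _ m)
    rcases r with _ | ⟨x, r⟩
    · exact ih
    change p (Bool.rec _ _ (Nat.beq x a))
    cases e : Nat.beq x a
    · exact ih
    rcases r with _ | ⟨y, r⟩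
    · exact ih
    change p (Bool.rec _ _ (Nat.beq y b))
    cases e' : Nat.beq y b
    · exact ih
    exact h' r (Nat.eq_of_beq_eq_true e ▸ Nat.eq_of_beq_eq_true e' ▸ .head _)

/-- collection; the first list and the result are reversed -/
noncomputable def col (R : List (List ℕ)) (n : ℕ) : List ℕ → List ℕ → List ℕ :=
  Nat.rec (fun d t => t.reverseAux d) (fun _ ih d t => List.casesOn t d fun x t => List.casesOn d (ih [x] t) fun y d =>
    look y x (ih (x :: y :: d) t) (fun r => ih d (r ++ t)) R) n

theorem lev_col {R : List (List ℕ)} (h : ROk γ R) (n : ℕ) : ∀ d t, lev γ (col R n d t).reverse = lev γ d.reverse * lev γ t := by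
  induction n with
  | zero => intro d t; change lev γ (t.reverseAux d).reverse = _; simp [List.reverseAux_eq, lev_append]
  | succ n ih =>
    rintro d (_ | ⟨x, t⟩)
    · exact (mul_one _).symm
    rcases d with _ | ⟨y, d⟩
    · exact (ih [x] t).trans (by simp [lev])
    refine look_ind (p := fun l : List ℕ => lev γ l.reverse = _) ((ih _ t).trans (by simp [lev, mul_assoc])) fun r m => (ih _ _).trans ?_
    rw [lev_append, ← h _ _ _ m]; simp [lev, mul_assoc]

/-- evaluate a list of lists -/
noncomputable def forceR (R : List (List ℕ)) : (List (List ℕ) → Bool) → Bool :=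
  List.rec (motive := fun _ => (List (List ℕ) → Bool) → Bool) (fun k => k [])
    (fun a _ ih k => forceL a fun a' => ih fun l' => k (a' :: l')) R

theorem forceR_eq (R : List (List ℕ)) (k : List (List ℕ) → Bool) : forceR R k = k R := by
  induction R generalizing k with
  | nil => rfl
  | cons a l ih => exact (forceL_eq a _).trans (ih _)

/-- reversed normal form -/
noncomputable def nfR (R : List (List ℕ)) (t : List ℕ) : List ℕ := col R 4000 [] t

theorem lev_nfR {R : List (List ℕ)} (h : ROk γ R) (t : List ℕ) : lev γ (nfR R t).reverse = lev γ t :=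
  (lev_col h _ _ _).trans (one_mul _)

/-- the relator follows by collection -/
noncomputable def relB (R : List (List ℕ)) (t : W) : Bool :=
  band (isPos (sides t).1 && isPos (sides t).2) (nfR R (pos (sides t).1) == nfR R (pos (sides t).2))

theorem of_relB (h0 : γ 0 = 1) {R : List (List ℕ)} (h : ROk γ R) {t : W} (e : relB R t = true) : t.ev γ = 1 := by
  rw [relB, band_eq_true, Bool.and_eq_true, beq_iff_eq] at e
  rw [sides_iff h0, ← lev_pos h0 e.1.1, ← lev_pos h0 e.1.2, ← lev_nfR h, e.2, lev_nfR h]

/-- the rules of a list of relators -/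
def rules (rels : List W) : List (List ℕ) := rels.map fun t => rule (sides t)

theorem rels_pc (h0 : γ 0 = 1) {rels l : List W} (h : ∀ t ∈ rels, t.ev γ = 1)
    (e : forceR (rules rels) (fun R => allP l (relB R)) = true := by decide +kernel) : ∀ t ∈ l, t.ev γ = 1 := fun t ht =>
  of_relB h0 (rok h0 h) (allP_iff.1 ((forceR_eq (rules rels) fun R => allP l (relB R)).symm.trans e) t ht)

theorem eq_pc (h0 : γ 0 = 1) {rels : List W} (h : ∀ t ∈ rels, t.ev γ = 1) {x y : G} {s t : W} [a : Rf γ x s] [b : Rf γ y t]
    (e : forceR (rules rels) (fun R => relB R (.mul s (.inv t))) = true := by decide +kernel) : x = y :=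
  a.e ▸ b.e ▸ mul_inv_eq_one.1 (of_relB h0 (rok h0 h) (t := .mul s (.inv t)) ((forceR_eq _ _).symm.trans e))

/-- new letters generating the same subgroup -/
theorem genW_pc (h0 : γ 0 = 1) {rels labs l l' : List W} (es : List W) (h : ∀ t ∈ rels, t.ev γ = 1)
    (e : band ((l'.map (W.subst labs)).all (W.overW l) && es.all (W.overW l') && Nat.beq es.length l.length && fixW labs (.l 0))
      (forceR (rules rels) fun R => allP (List.zipWith (fun s t => .mul s (.inv (t.subst labs))) l es) (relB R)) = true :=
      by decide +kernel) : genW (newLet γ labs) l' = genW γ l := by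
  simp only [band_eq_true, Bool.and_eq_true, forceR_eq, allP_iff, Nat.beq_eq] at e
  refine le_antisymm (genW_newLet γ labs l' ▸ ov_le h0 e.1.1.1.1) (genW_le.2 fun t ht => ?_)
  obtain ⟨i, hi, rfl⟩ := List.getElem_of_mem ht
  have hi' : i < es.length := e.1.1.2 ▸ hi
  have := of_relB h0 (rok h0 h) (e.2 _ (List.mem_iff_getElem.2 ⟨i, by simp [hi, hi'], List.getElem_zipWith⟩))
  rw [mul_inv_eq_one.1 this, W.ev_subst]
  exact W.ev_mem_of_overW ((ev_fix e.1.2).trans h0) (fun _ => mem_genW _) (List.all_eq_true.1 e.1.1.1.2 _ (List.getElem_mem hi'))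

/-- remove a common prefix -/
def strip : List ℕ → List ℕ → List ℕ × List ℕ
  | a :: l, b :: m => bif Nat.beq a b then strip l m else (a :: l, b :: m)
  | l, m => (l, m)

theorem lev_strip : ∀ l m : List ℕ, lev γ l.reverse = lev γ m.reverse → lev γ (strip l m).1.reverse = lev γ (strip l m).2.reverse
  | a :: l, b :: m, h => by
    rw [strip]
    cases e : Nat.beq a b
    · exact h
    · obtain rfl := Nat.eq_of_beq_eq_true e
      rw [List.reverse_cons, List.reverse_cons, lev_append, lev_append] at h
      exact lev_strip l m (mul_right_cancel h)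
  | [], _, h => h
  | _ :: _, [], h => h

variable {P : PM} [NeZero P.n] {k : ℕ} {N : List W}

/-- two lists have visibly different values -/
noncomputable def dif (P : PM) (k : ℕ) (N : List W) (R : List (List ℕ)) (u v : List ℕ) : Bool :=
  forceL (nfR R u) fun a => forceL (nfR R v) fun b => band (!(a == b))
    (tv P k N (.not (.eq (wl (strip a b).1.reverse) (wl (strip a b).2.reverse))))

theorem ne_of_dif (g : Gf P γ k N) {R : List (List ℕ)} (h : ROk γ R) {u v : List ℕ} (e : dif P k N R u v = true) :
    lev γ u ≠ lev γ v := fun e' => by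
  rw [dif, forceL_eq, forceL_eq, band_eq_true] at e
  refine g.tr e.2 ((ev_wl g.zero _).trans ((lev_strip _ _ ?_).trans (ev_wl g.zero _).symm))
  rw [lev_nfR h, lev_nfR h, e']

/-- either new letters from `L` satisfy `tg`, or the relators are contradictory -/
noncomputable def dec (P : PM) (k : ℕ) (N : List W) (rels tg : List W) (L : List (List W)) (T : List (List ℕ × List ℕ))
    (u v : List ℕ) : Bool :=
  forceR (rules rels) fun R => bor (T.any fun p => dif P k N R (p.1 ++ (nfR R p.2).reverse) (p.1 ++ p.2)) (bor (dif P k N R u v)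
    (L.any fun labs => allP (tg.map (W.subst labs)) (relB R)))

theorem of_dec (g : Gf P γ k N) {rels tg : List W} {L : List (List W)} {T : List (List ℕ × List ℕ)} {u v : List ℕ}
    (h : ∀ t ∈ rels, t.ev γ = 1) (huv : lev γ u = lev γ v) (e : dec P k N rels tg L T u v = true) :
    ∃ labs ∈ L, ∀ t ∈ tg, t.ev (newLet γ labs) = 1 := by
  have r : ROk γ (rules rels) := rok g.zero h
  rw [dec, forceR_eq, bor_eq_true, bor_eq_true, List.any_eq_true, List.any_eq_true] at e
  rcases e with ⟨p, -, e⟩ | e | ⟨labs, m, e⟩
  · exact absurd (by rw [lev_append, lev_append, lev_nfR r]) (ne_of_dif g r e)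
  · exact absurd huv (ne_of_dif g r e)
  · exact ⟨labs, m, rels_newLet fun t ht => of_relB g.zero r (allP_iff.1 e t ht)⟩

end Cfsg.Lib.G14
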