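import Cfsg.Agent.Lib.G14.Base

/-!
# S3114: further definitions (helper24)
-/

set_option autoImplicit false

namespace Cfsg.Lib.G14

open Cfsg.Lib.Calc Cfsg.Lib.T3 Cfsg.Lib.BG Subgroup

variable {G : Type*} [Group G]

/-- `x` is a 2-element -/
def Two (x : G) : Prop := ∃ n : ℕ, x ^ 2 ^ n = 1

/-- the 2-elements centralizing `Q` lie in `Q` -/
def CC (Q : Subgroup G) : Prop := ∀ x ∈ 𝐂(Q), Two x → x ∈ Q

/-- the automorphisms of `Q` induced by its normalizer -/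
abbrev Au (Q : Subgroup G) : Subgroup (MulAut Q) := Q.normalizerMonoidHom.range

/-- action of `d` (letter 6) on `E` -/
def actD : List W := [rc 6 1 (.l 1), rc 6 2 (.l 3), rc 6 3 (m2 2 3), rc 6 4 (.l 5), rc 6 5 (m2 4 5)]

/-- action of `d` (letter 7) on `U` -/
def actDU : List W := [rc 7 1 (.l 2), rc 7 2 (m2 1 2), rc 7 3 (.l 4), rc 7 4 (m2 3 4), rc 7 5 (.l 6), rc 7 6 (m2 5 6)]

end Cfsg.Lib.G14
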