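import Cfsg.Agent.Lib.G14.Def2

/-!
# S3114: the group `v6` (helper24)
-/

set_option autoImplicit false

namespace Cfsg.Lib.G14

open Cfsg.Lib.Calc

/-- `r² = z`, `f² = 1`, `f r f⁻¹ = r z` -/
def rel6 : List W := relE ++ actR ++ actF ++ [rs 7 (.l 1), rs 8 (.l 0), rc 8 7 (m2 7 1)]

/-- `E ⟨f⟩ ⟨d⟩` -/
def relEf : List W := relE ++ actD ++ actF ++ [rs 8 (.l 0), rc 6 8 (.l 8)]

end Cfsg.Lib.G14
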