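import Cfsg.Agent.Lib.G14.Def2
import Cfsg.Agent.Lib.PGroup.Metacyclic
import Cfsg.Agent.S3103

/-!
# S3114: a 3-element normalizing a 2-subgroup of a solvable group

Apply `S3103.result` to `X = M/O(M)` (solvable, so 2-constrained: `Core.isPConstrained_*`; see the start of `S3115.lean` for
the quotient bookkeeping): `Y = X/O₂(X) = M/O2 2 M` embeds in `A₈` and `O₂(Y) = 1`, so `F(Y)` has odd order and `C(F(Y)) ≤ F(Y)`
(`Core.centralizer_fittingSubgroup_le`, `Core.fittingSubgroup_eq_iSup_pCore`). If `|O₃(Y)| = 9` it is a Sylow 3-subgroup of `Y`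
(`|A₈|₃ = 9`), so `d̄ ∈ O₃(Y) ⊴ Y` and `[d̄, v̄] ∈ O₃(Y) ∩ V̄ = 1`. Otherwise every `O_p(Y)` has order `1` or `p`, so `Y'` centralizes
each of them (`PGroup.commutator_le_centralizer_of_isCyclic`), hence `Y' ≤ C(F) ≤ F` has odd order and `[d̄, v̄] ∈ Y' ∩ V̄ = 1`.
-/

set_option autoImplicit false

namespace Cfsg.Lib.G14

open Cfsg.Lib.BG Subgroup

theorem lemA_core {Y : Type*} [Group Y] [Finite Y] (hs : Group.IsSolvable Y) (h2 : pCore 2 Y = ⊥) (c : Nat.card Y ∣ 20160)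
    {d v : Y} {n : ℕ} (d3 : d ^ 3 ^ n = 1) (w : IsPGroup 2 (zpowers (d * v * d⁻¹ * v⁻¹))) : d * v * d⁻¹ * v⁻¹ = 1 := by
  refine mem_bot.1 (h2.le (Core.le_pCore_of_le_fittingSubgroup (zpowers_le.2 ?_) w (mem_zpowers _)))
  by_cases k : 3 ∣ (pCore 3 Y).index
  swap
  · obtain ⟨P, hP⟩ := (Inv.isPGroup_zpowers d3).exists_le_sylow
    have m : d ∈ pCore 3 Y := Core.sylow_eq_pCore_of_not_dvd_index k P ▸ hP (mem_zpowers d)
    rw [mul_assoc, mul_assoc, ← mul_assoc v]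
    exact Core.pCore_le_fittingSubgroup 3 (mul_mem m (Normal.conj_mem inferInstance _ (inv_mem m) v))
  refine Core.centralizer_fittingSubgroup_le (le_cent1_iff.1 ?_)
  rw [Core.fittingSubgroup_eq_iSup_pCore]
  refine iSup_le fun ⟨q, hq⟩ => le_cent1_iff.2 (PGroup.commutator_le_centralizer_of_isCyclic (R := ⊤) (A := ⊤) ?_
    le_normalizer_of_normal le_normalizer_of_normal (commutator_mem_commutator (mem_top d) (mem_top v)))
  have := Fact.mk hq
  obtain ⟨m, e⟩ := Core.card_pCore_eq_pow (G := Y) q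
  have c' := (pCore q Y).card_mul_index ▸ c
  obtain _ | _ | m := m
  · exact card_eq_one.1 (e.trans (pow_zero q)) ▸ inferInstance
  · exact isCyclic_of_prime_card (e.trans (pow_one q))
  have a : ∀ q ≤ 141, q * q ∣ 20160 → q.Prime → q = 2 ∨ q = 3 := by decide +kernel
  have b : q * q ∣ 20160 := (Dvd.intro (q ^ m) (by rw [e]; ring)).trans ((Dvd.intro _ rfl).trans c')
  rcases a q (by have := Nat.le_of_dvd (by decide) b; nlinarith) b hq with rfl | rfl
  · exact h2 ▸ inferInstance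
  · exact absurd ((Nat.mul_dvd_mul (show 9 ∣ _ from ⟨3 ^ m, by rw [e]; ring⟩) k).trans c') (by decide)

theorem lemA {G : Type*} [Group G] [Finite G] (h4 : SectionalPRankLE 2 4 G) {M V : Subgroup G} {d v : G}
    (hs : Group.IsSolvable M) (hV : IsPGroup 2 V) (VM : V ≤ M) (dM : d ∈ M) (d3 : ∃ n : ℕ, d ^ 3 ^ n = 1) (dV : d ∈ 𝐍(V))
    (hv : v ∈ V) : d * v * d⁻¹ * v⁻¹ ∈ O2 2 M := by
  have := hs
  have sr := (FGS.sr_top (FGS.sr_map_iff.1 ((FGS.sr_top h4).mono (le_top : M ≤ ⊤)))).quot (oddCore M)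
  obtain ⟨f, hf⟩ := Agent.S3103.result (Comp.isPConstrained_of_isSolvable inferInstance)
    (Core.pPrimeCore_quotient_pPrimeCore 2 M) (FGS.sr_map_iff.1 (sr.mono le_top))
  obtain ⟨n, d3⟩ := d3
  let π := (QuotientGroup.mk' (pCore 2 (M ⧸ oddCore M))).comp (QuotientGroup.mk' (oddCore M))
  obtain ⟨k, hk⟩ := hV ⟨_, mul_mem (conj_mem_of_norm dV hv) (inv_mem hv)⟩
  have := lemA_core (d := π ⟨d, dM⟩) (v := π ⟨v, VM hv⟩) (n := n) inferInstance (Core.pCore_quotient_pCore 2 _)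
    ((card_dvd_of_injective f hf).trans (by rw [nat_card_alternatingGroup, Nat.card_fin]; rfl))
    (by rw [← map_pow]; exact (congrArg π (Subtype.ext d3)).trans (map_one π)) (Inv.isPGroup_zpowers (k := k) (by
      rw [← map_inv, ← map_inv, ← map_mul, ← map_mul, ← map_mul, ← map_pow]
      exact (congrArg π (Subtype.ext (congrArg Subtype.val hk :))).trans (map_one π)))
  rw [← map_inv, ← map_inv, ← map_mul, ← map_mul, ← map_mul] at this
  exact ⟨_, (QuotientGroup.eq_one_iff (QuotientGroup.mk' (oddCore M) _)).1 this, rfl⟩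

end Cfsg.Lib.G14
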