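import Cfsg.Agent.Lib.T2.Fm

/-! S3114: the holomorphs of `E₈` and `E₁₆` -/

set_option autoImplicit false
set_option maxRecDepth 100000

namespace Cfsg.Lib.G14

open Cfsg.Lib.Calc Cfsg.Lib.T2

def h8_L0 : List (ℕ × List ℕ) := [((nat_lit 1), [(nat_lit 16434824), (nat_lit 12369168), (nat_lit 6852524), (nat_lit 11788826), (nat_lit 14570689), (nat_lit 3501792), (nat_lit 3077172), (nat_lit 6851390)]),
  ((nat_lit 4), [(nat_lit 16434824), (nat_lit 13700043), (nat_lit 11789960), (nat_lit 8631693), (nat_lit 7958860), (nat_lit 1007370), (nat_lit 2009294)]),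
  ((nat_lit 2), [(nat_lit 16434824), (nat_lit 4410315), (nat_lit 14599368), (nat_lit 6540170), (nat_lit 741195), (nat_lit 11128334)]),
  ((nat_lit 0), [(nat_lit 16434824), (nat_lit 15486093), (nat_lit 14797454), (nat_lit 16203915)])]

def h8_D0 : List ℕ := [(nat_lit 0), (nat_lit 513), (nat_lit 2049), (nat_lit 2561), (nat_lit 4097), (nat_lit 143874), (nat_lit 155650), (nat_lit 181250), (nat_lit 0), (nat_lit 203266), (nat_lit 1025), (nat_lit 14971395), (nat_lit 17198339), (nat_lit 20072963), (nat_lit 22792451), (nat_lit 0), (nat_lit 24602115), (nat_lit 24982787), (nat_lit 2042477828), (nat_lit 2368623108), (nat_lit 2600265988), (nat_lit 0), (nat_lit 3088342532), (nat_lit 242938902789), (nat_lit 20151699124998)]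

def h8_L1 : List (ℕ × List ℕ) := [((nat_lit 0), [(nat_lit 16434824), (nat_lit 6852524), (nat_lit 11788826), (nat_lit 14570689), (nat_lit 2206526), (nat_lit 4988389), (nat_lit 9924691), (nat_lit 342391)])]

def h8_D1 : List ℕ := [(nat_lit 0), (nat_lit 513), (nat_lit 1025), (nat_lit 1537), (nat_lit 41986), (nat_lit 47618), (nat_lit 62978), (nat_lit 91650)]

def h8_L2 : List (ℕ × List ℕ) := [((nat_lit 0), [(nat_lit 16434824), (nat_lit 6852524), (nat_lit 11788826), (nat_lit 14570689), (nat_lit 2206526), (nat_lit 6852069), (nat_lit 11760147), (nat_lit 2177847)]),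
  ((nat_lit 2), [(nat_lit 16434824), (nat_lit 14599368)]),
  ((nat_lit 4), [(nat_lit 16434824), (nat_lit 14571144)])]

def h8_D2 : List ℕ := [(nat_lit 0), (nat_lit 513), (nat_lit 1025), (nat_lit 2561), (nat_lit 72706), (nat_lit 80898), (nat_lit 99842), (nat_lit 134658), (nat_lit 0), (nat_lit 1537), (nat_lit 0), (nat_lit 2049)]

def h8_L3 : List (ℕ × List ℕ) := [((nat_lit 4), [(nat_lit 16434824), (nat_lit 11789960), (nat_lit 6852524), (nat_lit 14571144), (nat_lit 2207660), (nat_lit 11760840), (nat_lit 4988389), (nat_lit 2178540)]),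
  ((nat_lit 0), [(nat_lit 16434824), (nat_lit 14598234), (nat_lit 14598675), (nat_lit 16434369)]),
  ((nat_lit 2), [(nat_lit 16434824), (nat_lit 14599368)])]

def h8_D3 : List ℕ := [(nat_lit 0), (nat_lit 513), (nat_lit 1025), (nat_lit 2561), (nat_lit 91138), (nat_lit 100354), (nat_lit 122882), (nat_lit 159746), (nat_lit 0), (nat_lit 6345987), (nat_lit 5986051), (nat_lit 390229252), (nat_lit 0), (nat_lit 2049)]

def h8_L4 : List (ℕ × List ℕ) := [((nat_lit 1), [(nat_lit 16434824), (nat_lit 12369168), (nat_lit 13609064), (nat_lit 3501792), (nat_lit 7542136), (nat_lit 4619160), (nat_lit 9032688)])]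

def h8_D4 : List ℕ := [(nat_lit 0), (nat_lit 513), (nat_lit 769), (nat_lit 15874), (nat_lit 25346), (nat_lit 36354), (nat_lit 49922)]

def h8 : PM :=
  ⟨(nat_lit 8), (nat_lit 3), [(nat_lit 14570689), (nat_lit 14571144), (nat_lit 14599368), (nat_lit 11788826), (nat_lit 6852524), (nat_lit 7072520), (nat_lit 11789960), (nat_lit 16205392), (nat_lit 12369168)],
    [[.l 9, .l 7, .l 6, .l 5, .l 4, .l 3, .l 2, .l 1],
    [.l 5, .l 4, .l 1],
    [.l 5, .l 4, .l 3, .l 2, .l 1],
    [.l 7, .l 5, .l 4, .l 3, .l 2, .l 1],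
    [.l 9]],
    [h8_L0, h8_L1, h8_L2, h8_L3, h8_L4], [h8_D0, h8_D1, h8_D2, h8_D3, h8_D4]⟩

instance h8_ne : NeZero h8.n := ⟨by decide⟩

theorem h8_ok0 : h8.ok0 = true := by decide +kernel

theorem h8_k0 : allFrom (nat_lit 0) (nat_lit 1) h8.okK = true := by decide +kernel

theorem h8_k1 : allFrom (nat_lit 1) (nat_lit 1) h8.okK = true := by decide +kernel

theorem h8_k2 : allFrom (nat_lit 2) (nat_lit 1) h8.okK = true := by decide +kernel

theorem h8_k3 : allFrom (nat_lit 3) (nat_lit 1) h8.okK = true := by decide +kernel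

theorem h8_k4 : allFrom (nat_lit 4) (nat_lit 1) h8.okK = true := by decide +kernel

theorem h8_ok : h8.OK := PM.OK.of_check h8_ok0
  (of_allFrom_append (of_allFrom_append (of_allFrom_append (of_allFrom_append (of_allFrom_append of_lt_zero h8_k0) h8_k1) h8_k2) h8_k3) h8_k4)


def h16_L0 : List (ℕ × List ℕ) := [((nat_lit 8), [(nat_lit 0xfedcba9876543210), (nat_lit 0xefcdab8976543210), (nat_lit 0x9cd8afeb27631450), (nat_lit 0xd1592ea6b73f48c0), (nat_lit 0x76543210fedcba98), (nat_lit 0xba98fedc32107654), (nat_lit 0xdcfe98ba54761032), (nat_lit 0x4af179c268d35be0), (nat_lit 0xc98dfabe27631450), (nat_lit 0x67452301fedcba98), (nat_lit 0xab89efcd32107654), (nat_lit 0x9aedb8cf65124730), (nat_lit 0x14502763afeb9cd8), (nat_lit 0xc1f294a7b685e3d0), (nat_lit 0xf37b0c84951d6ae2), (nat_lit 0xd31f79b5864a2ce0)]),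
  ((nat_lit 0), [(nat_lit 0xfedcba9876543210), (nat_lit 0x3f2e59481d0c7b6a), (nat_lit 0xafeb9cd814502763), (nat_lit 0xec6420a831b9fd75), (nat_lit 0xed9acfb821560374), (nat_lit 0x73bf04c862ae15d9), (nat_lit 0x2a7f5d086e3b194c), (nat_lit 0xe3d5b68794a2c1f), (nat_lit 0x93f54e286c0ab1d7), (nat_lit 0xcaf9dbe860537142), (nat_lit 0xc419d508f72ae63b), (nat_lit 0xd9bfaec837514026), (nat_lit 0x129a30b847cf65ed), (nat_lit 0xb91302a8df7564ce), (nat_lit 0x4730cfb8dea95621)]),
  ((nat_lit 1), [(nat_lit 0xfedcba9876543210), (nat_lit 0x35ca17e8bd429f60), (nat_lit 0x296d7c38a1e5f4b0), (nat_lit 0x59f3e248d17b6ac0), (nat_lit 0x94a76b581c2fe3d0), (nat_lit 0xcf1265b8479aed30), (nat_lit 0xae3751c826bfd940), (nat_lit 0x4316adf8cb9e2570), (nat_lit 0xa41fd3682c975be0), (nat_lit 0x4e395f28c6b1d7a0), (nat_lit 0x4b2d1e78c3a596f0), (nat_lit 0xa36fd4182be75c90), (nat_lit 0x759b46a8fd13ce20), (nat_lit 0xc9faebd841726350)]),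
  ((nat_lit 2), [(nat_lit 0xfedcba9876543210), (nat_lit 0x67ab5498ef23dc10), (nat_lit 0xba54769832dcfe10), (nat_lit 0x6732cd98efba4510), (nat_lit 0x3254fe98badc7610), (nat_lit 0xfe45239876cdab10), (nat_lit 0x2367dc98abef5410), (nat_lit 0x5423ef98dcab6710), (nat_lit 0x76dc3298fe54ba10), (nat_lit 0x23fe4598ab76cd10), (nat_lit 0xdc23679854abef10), (nat_lit 0xcdfeab9845762310)]),
  ((nat_lit 4), [(nat_lit 0xfedcba9876543210), (nat_lit 0x6745ba98efcd3210), (nat_lit 0x5476ba98dcfe3210), (nat_lit 0x7654ba98fedc3210), (nat_lit 0xcdefba9845673210), (nat_lit 0xefcdba9867453210), (nat_lit 0xdcfeba9854763210), (nat_lit 0x4567ba98cdef3210)])]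

def h16_D0 : List ℕ := [(nat_lit 0), (nat_lit 513), (nat_lit 1025), (nat_lit 1537), (nat_lit 2049), (nat_lit 2561), (nat_lit 3073), (nat_lit 1793), (nat_lit 148482), (nat_lit 158722), (nat_lit 168450), (nat_lit 176386), (nat_lit 206850), (nat_lit 216834), (nat_lit 250882), (nat_lit 260354), (nat_lit 0), (nat_lit 26992387), (nat_lit 347138), (nat_lit 28502275), (nat_lit 78594), (nat_lit 2533732100), (nat_lit 46480387), (nat_lit 49289475), (nat_lit 3533842180), (nat_lit 58427395), (nat_lit 4391857924), (nat_lit 70342915), (nat_lit 77452291), (nat_lit 6283280132), (nat_lit 7254451972), (nat_lit 0), (nat_lit 7120582404), (nat_lit 7631298820), (nat_lit 8810098948), (nat_lit 1129114879749), (nat_lit 1240090811141), (nat_lit 1390029572869), (nat_lit 1514628168453), (nat_lit 1651292705541), (nat_lit 1838726887173), (nat_lit 2044673548037), (nat_lit 2266690676485), (nat_lit 2508663203589), (nat_lit 2710918819589), (nat_lit 0), (nat_lit 2376737420549),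 (nat_lit 356602726536966), (nat_lit 3243444868357), (nat_lit 416377958156550), (nat_lit 583864827366662), (nat_lit 0x10af6bd63d04f07), (nat_lit 704332153026822), (nat_lit 0x14c00721825cb07), (nat_lit 0x174999dc752b907), (nat_lit 931225551674118), (nat_lit 0x3b443411dd106), (nat_lit 0), (nat_lit 0x243d119ebe4e307), (nat_lit 0x2850e0afc602907), (nat_lit 0x16ab2f5f675db5508), (nat_lit 0x1c1fc4165589f6d08), (nat_lit 0x1101490793e923ed909), (nat_lit 0x135560604b3b9b3ef09), (nat_lit 0x1643104166b81d73d09)]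

def h16_L1 : List (ℕ × List ℕ) := [((nat_lit 0), [(nat_lit 0xfedcba9876543210), (nat_lit 0x76543210fedcba98), (nat_lit 0xba98fedc32107654), (nat_lit 0xdcfe98ba54761032), (nat_lit 0xefcdab8967452301), (nat_lit 0x32107654ba98fedc), (nat_lit 0x54761032dcfe98ba), (nat_lit 0x67452301efcdab89), (nat_lit 0x98badcfe10325476), (nat_lit 0xab89efcd23016745), (nat_lit 0xcdef89ab45670123), (nat_lit 0x1032547698badcfe), (nat_lit 0x23016745ab89efcd), (nat_lit 0x45670123cdef89ab), (nat_lit 0x89abcdef01234567), (nat_lit 0x123456789abcdef)])]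

def h16_D1 : List ℕ := [(nat_lit 0), (nat_lit 513), (nat_lit 1025), (nat_lit 1537), (nat_lit 2049), (nat_lit 62466), (nat_lit 69122), (nat_lit 75778), (nat_lit 94722), (nat_lit 102402), (nat_lit 124930), (nat_lit 165378), (nat_lit 176130), (nat_lit 204802), (nat_lit 254978), (nat_lit 329730)]

def h16_L2 : List (ℕ × List ℕ) := [((nat_lit 8), [(nat_lit 0xfedcba9876543210), (nat_lit 0xefcdab8976543210), (nat_lit 0x9cd8afeb27631450), (nat_lit 0xd1592ea6b73f48c0), (nat_lit 0xa9de8bfc65124730), (nat_lit 0x4af179c268d35be0), (nat_lit 0xc98dfabe27631450), (nat_lit 0x1d95e26ab73f48c0), (nat_lit 0x9aedb8cf65124730), (nat_lit 0xc1f294a7b685e3d0), (nat_lit 0xd31f79b5864a2ce0), (nat_lit 0xb8cf9aed65124730), (nat_lit 0x9cfa27418deb3650), (nat_lit 0x3f952e847bd16ac0), (nat_lit 0x54cdba2367fe8910)]),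
  ((nat_lit 1), [(nat_lit 0xfedcba9876543210), (nat_lit 0xbcade9f834256170), (nat_lit 0xfb5162c873d9ea40), (nat_lit 0x9bcefda813467520), (nat_lit 0xf359e2487bd16ac0), (nat_lit 0xed9acfb865124730), (nat_lit 0xbe2741d836afc950), (nat_lit 0xf6d43a187e5cb290), (nat_lit 0x9f4235e817cabd60), (nat_lit 0xc61bf5284e937da0), (nat_lit 0xb62fc1583ea749d0), (nat_lit 0x974ab5681fc23de0), (nat_lit 0xb4a569783c2de1f0), (nat_lit 0x4f1a6d38c792e5b0)]),
  ((nat_lit 2), [(nat_lit 0xfedcba9876543210), (nat_lit 0x3254fe98badc7610), (nat_lit 0xcd76239845feab10), (nat_lit 0xba54769832dcfe10), (nat_lit 0x76dc3298fe54ba10), (nat_lit 0xabfecd9823764510), (nat_lit 0xab67549823efdc10), (nat_lit 0x45ba6798cd32ef10), (nat_lit 0x4532ef98cdba6710), (nat_lit 0x23fe4598ab76cd10), (nat_lit 0x2367dc98abef5410), (nat_lit 0x4576ab98cdfe2310)]),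
  ((nat_lit 4), [(nat_lit 0xfedcba9876543210), (nat_lit 0x6745ba98efcd3210), (nat_lit 0x4567ba98cdef3210), (nat_lit 0x5476ba98dcfe3210), (nat_lit 0xdcfeba9854763210), (nat_lit 0xcdefba9845673210), (nat_lit 0xefcdba9867453210), (nat_lit 0x7654ba98fedc3210)])]

def h16_D2 : List ℕ := [(nat_lit 0), (nat_lit 513), (nat_lit 1025), (nat_lit 1537), (nat_lit 1281), (nat_lit 1793), (nat_lit 52226), (nat_lit 57858), (nat_lit 62722), (nat_lit 81666), (nat_lit 101634), (nat_lit 123394), (nat_lit 132866), (nat_lit 157698), (nat_lit 259586), (nat_lit 0), (nat_lit 8237315), (nat_lit 7292675), (nat_lit 7991555), (nat_lit 5503747), (nat_lit 1144312068), (nat_lit 1356855556), (nat_lit 1522975492), (nat_lit 1705071364), (nat_lit 1991072516), (nat_lit 2314926340), (nat_lit 2558443780), (nat_lit 3192371460), (nat_lit 3634483460), (nat_lit 0), (nat_lit 220240508165), (nat_lit 309089493765), (nat_lit 276153413893), (nat_lit 38937198276358), (nat_lit 44567715412230),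 (nat_lit 50678820973830), (nat_lit 59141793618182), (nat_lit 66900976502534), (nat_lit 77725142810886), (nat_lit 87327873103110), (nat_lit 100744641840390), (nat_lit 0), (nat_lit 119028387907846), (nat_lit 0x34f8f5a0f6d707), (nat_lit 0x367a5178753107), (nat_lit 0x1ca3eaeb7290db08), (nat_lit 0x20f4edeeb78ef508), (nat_lit 0x26aabf5362ba8308), (nat_lit 0x2e28fabfc1c8d908)]

def h16_L3 : List (ℕ × List ℕ) := [((nat_lit 1), [(nat_lit 0xfedcba9876543210), (nat_lit 0xd1592ea6b73f48c0), (nat_lit 0x4af179c268d35be0), (nat_lit 0x5c3a81e72b4df690), (nat_lit 0x394e6c1b82f5d7a0)])]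

def h16_D3 : List ℕ := [(nat_lit 0), (nat_lit 513), (nat_lit 769), (nat_lit 15874), (nat_lit 25346)]

def h16_L4 : List (ℕ × List ℕ) := [((nat_lit 2), [(nat_lit 0xfedcba9876543210), (nat_lit 0xba89dcef45762310), (nat_lit 0xd1592ea6b73f48c0), (nat_lit 0x6574edfca9b82130), (nat_lit 0x4af179c268d35be0), (nat_lit 0x2e6a591df3b784c0), (nat_lit 0x792cf1a43d68b5e0), (nat_lit 0x817e3ac5d42b6f90), (nat_lit 0x5c3a81e72b4df690), (nat_lit 0xb16c39e4f5287da0), (nat_lit 0x73bf15d9ea268c40), (nat_lit 0x8d63af419c72be50), (nat_lit 0x394e6c1b82f5d7a0), (nat_lit 0x42db178eac35f960), (nat_lit 0x52f816bc9e34da70)]),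
  ((nat_lit 1), [(nat_lit 0xfedcba9876543210), (nat_lit 0xcfed6547b89a1230)]),
  ((nat_lit 4), [(nat_lit 0xfedcba9876543210), (nat_lit 0xdcfe89ab67453210)])]

def h16_D4 : List ℕ := [(nat_lit 0), (nat_lit 513), (nat_lit 1537), (nat_lit 1281), (nat_lit 1793), (nat_lit 47618), (nat_lit 52994), (nat_lit 68098), (nat_lit 75266), (nat_lit 80642), (nat_lit 87298), (nat_lit 109314), (nat_lit 132866), (nat_lit 192514), (nat_lit 240642), (nat_lit 0), (nat_lit 43778), (nat_lit 0), (nat_lit 19872515)]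

def h16_L5 : List (ℕ × List ℕ) := [((nat_lit 1), [(nat_lit 0xfedcba9876543210), (nat_lit 0x9cd8afeb27631450), (nat_lit 0xa9de8bfc65124730), (nat_lit 0xe8dbf9ca42715360), (nat_lit 0xbfd9c8ae51372640), (nat_lit 0xcbda9e8f34256170), (nat_lit 0x8adfecb913467520)])]

def h16_D5 : List ℕ := [(nat_lit 0), (nat_lit 513), (nat_lit 769), (nat_lit 15874), (nat_lit 25346), (nat_lit 36354), (nat_lit 49922)]

def h16_L6 : List (ℕ × List ℕ) := [((nat_lit 2), [(nat_lit 0xfedcba9876543210), (nat_lit 0x89dcfeab32674510), (nat_lit 0x9cd8afeb27631450), (nat_lit 0xbadc89ef45237610), (nat_lit 0xa9de8bfc65124730), (nat_lit 0xcfdea9b847562130), (nat_lit 0xe8dbf9ca42715360)]),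
  ((nat_lit 1), [(nat_lit 0xfedcba9876543210), (nat_lit 0xf9dbac8e17354260), (nat_lit 0xf8dacbe961435270)])]

def h16_D6 : List ℕ := [(nat_lit 0), (nat_lit 513), (nat_lit 1025), (nat_lit 769), (nat_lit 1281), (nat_lit 34050), (nat_lit 47106), (nat_lit 0), (nat_lit 1017091), (nat_lit 1802499)]

def h16_L7 : List (ℕ × List ℕ) := [((nat_lit 4), [(nat_lit 0xfedcba9876543210), (nat_lit 0xefcd98ba45673210), (nat_lit 0xdcfe89ab67453210), (nat_lit 0x76543210fedcba98), (nat_lit 0xba98fedc32107654), (nat_lit 0xdcfe98ba54761032), (nat_lit 0x67451032cdefba98), (nat_lit 0xab89dcfe01237654), (nat_lit 0x54760123efcdba98), (nat_lit 0x98bacdef23017654), (nat_lit 0x67453210dcfe89ab), (nat_lit 0x32107654ba98fedc), (nat_lit 0x98badcfe10325476), (nat_lit 0x2301547689abfedc), (nat_lit 0x10324567ab89fedc), (nat_lit 0x2301765498bacdef)]),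
  ((nat_lit 0), [(nat_lit 0xfedcba9876543210), (nat_lit 0xcdef98ba76542301), (nat_lit 0xefcd89ab76541032), (nat_lit 0xdcfeab8976540123)])]

def h16_D7 : List ℕ := [(nat_lit 0), (nat_lit 513), (nat_lit 1025), (nat_lit 1537), (nat_lit 2049), (nat_lit 2561), (nat_lit 108034), (nat_lit 116738), (nat_lit 139778), (nat_lit 149506), (nat_lit 175106), (nat_lit 186370), (nat_lit 216578), (nat_lit 268290), (nat_lit 324610), (nat_lit 385026), (nat_lit 0), (nat_lit 152322), (nat_lit 10297603), (nat_lit 1738926340)]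

def h16_L8 : List (ℕ × List ℕ) := [((nat_lit 2), [(nat_lit 0xfedcba9876543210), (nat_lit 0xba89fecd67542310), (nat_lit 0x76543210fedcba98), (nat_lit 0xba98fedc32107654), (nat_lit 0xdcfe98ba54761032), (nat_lit 0x32017645efdcab98), (nat_lit 0xfecdba8923106754), (nat_lit 0x98abdcef45760132), (nat_lit 0x67542310ba89fecd), (nat_lit 0x67453210dcfe89ab), (nat_lit 0x54761032dcfe98ba), (nat_lit 0x98badcfe10325476), (nat_lit 0x23016745ab89efcd), (nat_lit 0xdcef98ab01324576), (nat_lit 0x7645231089badcef), (nat_lit 0x2301765498bacdef)]),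
  ((nat_lit 4), [(nat_lit 0xfedcba9876543210), (nat_lit 0xdcfe89ab67453210)]),
  ((nat_lit 0), [(nat_lit 0xfedcba9876543210), (nat_lit 0x98abcdfe67543201)])]

def h16_D8 : List ℕ := [(nat_lit 0), (nat_lit 513), (nat_lit 1537), (nat_lit 2049), (nat_lit 2561), (nat_lit 99842), (nat_lit 108546), (nat_lit 117250), (nat_lit 138754), (nat_lit 148482), (nat_lit 159234), (nat_lit 186882), (nat_lit 233986), (nat_lit 268802), (nat_lit 323586), (nat_lit 362498), (nat_lit 0), (nat_lit 1025), (nat_lit 0), (nat_lit 8545539)]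

def h16_L9 : List (ℕ × List ℕ) := [((nat_lit 4), [(nat_lit 0xfedcba9876543210), (nat_lit 0xfedcab8967453210), (nat_lit 0x9cd8afeb27631450), (nat_lit 0xa9de8bfc65124730), (nat_lit 0x9cd8fabe72361450), (nat_lit 0xa9deb8cf56214730), (nat_lit 0xbfd9c8ae51372640)]),
  ((nat_lit 1), [(nat_lit 0xfedcba9876543210), (nat_lit 0xcadb8e9f35247160), (nat_lit 0x8adfce9b31647520), (nat_lit 0xbed8fa9c72143650), (nat_lit 0xcfde8b9a65742130), (nat_lit 0x8fdacb9e61342570)]),
  ((nat_lit 2), [(nat_lit 0xfedcba9876543210), (nat_lit 0xabdcef9823546710), (nat_lit 0xefdcab9867542310), (nat_lit 0xbadcfe9832547610)])]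

def h16_D9 : List ℕ := [(nat_lit 0), (nat_lit 513), (nat_lit 1025), (nat_lit 1281), (nat_lit 29698), (nat_lit 34050), (nat_lit 56578), (nat_lit 0), (nat_lit 1265923), (nat_lit 2392835), (nat_lit 100749572), (nat_lit 126059780), (nat_lit 168671492), (nat_lit 0), (nat_lit 3571971), (nat_lit 11323641605), (nat_lit 703711006982)]

def h16_L10 : List (ℕ × List ℕ) := [((nat_lit 2), [(nat_lit 0xfedcba9876543210), (nat_lit 0x23dcab546798ef10), (nat_lit 0x9cd8afeb27631450), (nat_lit 0xa9de8bfc65124730), (nat_lit 0x41d8fa6372ebc950), (nat_lit 0x74deb81256fc9a30), (nat_lit 0x5cd4b23af67e1890), (nat_lit 0xe8dbf9ca42715360), (nat_lit 0xb5d34a2c791f86e0), (nat_lit 0x81d42b7e6f3ac590), (nat_lit 0x35db9f7124ca8e60), (nat_lit 0x68d3a41f972c5be0), (nat_lit 0x1ed2874ba5693cf0), (nat_lit 0xcbda9e8f34256170)]),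
  ((nat_lit 1), [(nat_lit 0xfedcba9876543210), (nat_lit 0xf7d5193b4c6ea280), (nat_lit 0xfbd95173c8ea6240), (nat_lit 0xf4d683a1e5c792b0), (nat_lit 0xf5d7e4c693b182a0), (nat_lit 0xfcde4765a98b1230), (nat_lit 0xf9dbac8e17354260), (nat_lit 0xf1d3684a5b79c2e0), (nat_lit 0xf8dacbe961435270), (nat_lit 0xfad83614be9c7250), (nat_lit 0xf6d47e5c3a18b290), (nat_lit 0xf3d195b784a6e2c0)])]

def h16_D10 : List ℕ := [(nat_lit 0), (nat_lit 513), (nat_lit 1025), (nat_lit 1281), (nat_lit 29698), (nat_lit 34050), (nat_lit 46594), (nat_lit 52226), (nat_lit 68098), (nat_lit 86530), (nat_lit 94210), (nat_lit 115202), (nat_lit 139522), (nat_lit 164866), (nat_lit 0), (nat_lit 7339267), (nat_lit 10393859), (nat_lit 4972291), (nat_lit 7286531), (nat_lit 798982404), (nat_lit 905782020), (nat_lit 1088867588), (nat_lit 1223749892), (nat_lit 1459265796), (nat_lit 1709534468), (nat_lit 2085776644)]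

def h16_L11 : List (ℕ × List ℕ) := [((nat_lit 4), [(nat_lit 0xfedcba9876543210), (nat_lit 0xdcfe89ab67453210), (nat_lit 0x9cd8afeb27631450), (nat_lit 0xa9de8bfc65124730), (nat_lit 0xd89cbefa72361450), (nat_lit 0xdea9cfb856214730), (nat_lit 0xbfd9c8ae51372640)]),
  ((nat_lit 1), [(nat_lit 0xfedcba9876543210), (nat_lit 0xe8f9acbd35247160), (nat_lit 0xdf8a9bce31647520), (nat_lit 0x8debc9af72143650), (nat_lit 0xfcedb8a965742130), (nat_lit 0x9ecbda8f61342570)]),
  ((nat_lit 2), [(nat_lit 0xfedcba9876543210), (nat_lit 0xef98abdc23546710), (nat_lit 0xba89fecd67542310), (nat_lit 0xabcdef8932547610)])]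

def h16_D11 : List ℕ := [(nat_lit 0), (nat_lit 513), (nat_lit 1025), (nat_lit 1281), (nat_lit 29698), (nat_lit 34050), (nat_lit 56578), (nat_lit 0), (nat_lit 1265923), (nat_lit 2392835), (nat_lit 100749572), (nat_lit 126059780), (nat_lit 168671492), (nat_lit 0), (nat_lit 3571971), (nat_lit 11323641605), (nat_lit 703711006982)]

def h16_L12 : List (ℕ × List ℕ) := [((nat_lit 0), [(nat_lit 0xfedcba9876543210), (nat_lit 0xba98fedc32107654), (nat_lit 0xdcfe98ba54761032), (nat_lit 0xefcdab8967452301), (nat_lit 0x98badcfe10325476), (nat_lit 0xab89efcd23016745), (nat_lit 0xcdef89ab45670123), (nat_lit 0x89abcdef01234567)])]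

def h16_D12 : List ℕ := [(nat_lit 0), (nat_lit 513), (nat_lit 1025), (nat_lit 1537), (nat_lit 41986), (nat_lit 47618), (nat_lit 62978), (nat_lit 91650)]

def h16_L13 : List (ℕ × List ℕ) := [((nat_lit 1), [(nat_lit 0xfedcba9876543210), (nat_lit 0xf7b3d591e6a2c480), (nat_lit 0xd1592ea6b73f48c0), (nat_lit 0x4af179c268d35be0), (nat_lit 0xdb2453ac17e89f60), (nat_lit 0x4675fdcea89b1320), (nat_lit 0xb8a94756decf2130), (nat_lit 0x5c3a81e72b4df690), (nat_lit 0x25f8e93461bcad70), (nat_lit 0x394e6c1b82f5d7a0), (nat_lit 0x26eafb37519d8c40), (nat_lit 0x386d4f1a92c7e5b0), (nat_lit 0x729c36d8fa14be50), (nat_lit 0x871ed24b3ca569f0), (nat_lit 0xc16b2f85943e7ad0)]),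
  ((nat_lit 4), [(nat_lit 0xfedcba9876543210), (nat_lit 0xefcd98ba45673210), (nat_lit 0xcdefab8954763210), (nat_lit 0xdcfe89ab67453210)])]

def h16_D13 : List ℕ := [(nat_lit 0), (nat_lit 513), (nat_lit 1025), (nat_lit 1281), (nat_lit 29698), (nat_lit 34050), (nat_lit 46594), (nat_lit 52226), (nat_lit 68098), (nat_lit 75010), (nat_lit 107010), (nat_lit 115970), (nat_lit 139522), (nat_lit 214018), (nat_lit 244226), (nat_lit 0), (nat_lit 5198595), (nat_lit 8217859), (nat_lit 729786628)]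

def h16_L14 : List (ℕ × List ℕ) := [((nat_lit 4), [(nat_lit 0xfedcba9876543210), (nat_lit 0xcdefab8954763210), (nat_lit 0x1eb4d278963c5af0), (nat_lit 0x87b41e2d5a69c3f0), (nat_lit 0x38a16df47ce529b0), (nat_lit 0x4b78e1d2695ac3f0), (nat_lit 0x1da6e259843f7bc0), (nat_lit 0xbadc89ef45237610), (nat_lit 0x95a61d2e7b48f3c0), (nat_lit 0x89dcfeab32674510), (nat_lit 0xd519f73b6ea24c80), (nat_lit 0x6a59d1e2487bf3c0), (nat_lit 0x915d7fb3a26e4c80), (nat_lit 0xfb26ea378c519d40), (nat_lit 0x26eafb37519d8c40)]),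
  ((nat_lit 1), [(nat_lit 0xfedcba9876543210), (nat_lit 0xa318e75c6fd42b90), (nat_lit 0xf285b6c1e394a7d0), (nat_lit 0xf719b35d2ac46e80), (nat_lit 0x729c36d8fa14be50), (nat_lit 0x6ad12e953f847bc0)]),
  ((nat_lit 2), [(nat_lit 0xfedcba9876543210), (nat_lit 0xabcdef8932547610), (nat_lit 0xba89fecd67542310), (nat_lit 0xef98abdc23546710)])]

def h16_D14 : List ℕ := [(nat_lit 0), (nat_lit 513), (nat_lit 1025), (nat_lit 1793), (nat_lit 42498), (nat_lit 47874), (nat_lit 61954), (nat_lit 69122), (nat_lit 86530), (nat_lit 94210), (nat_lit 102146), (nat_lit 138754), (nat_lit 149250), (nat_lit 175106), (nat_lit 222978), (nat_lit 0), (nat_lit 9056515), (nat_lit 67842), (nat_lit 136962), (nat_lit 1008689412), (nat_lit 23670019), (nat_lit 0), (nat_lit 1527103748), (nat_lit 1858965252), (nat_lit 132989878533)]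

def h16 : PM :=
  ⟨(nat_lit 16), (nat_lit 4), [(nat_lit 0xefcdab8967452301), (nat_lit 0xdcfe98ba54761032), (nat_lit 0xba98fedc32107654), (nat_lit 0x76543210fedcba98), (nat_lit 0xdcfe89ab67453210), (nat_lit 0xefcd98ba45673210), (nat_lit 0x5764dfec9ba81320), (nat_lit 0xdcfe89ab67453210), (nat_lit 0xba89fecd67542310), (nat_lit 0xbafedc9832765410), (nat_lit 0xd1592ea6b73f48c0), (nat_lit 0xf7b3d591e6a2c480), (nat_lit 0xf1794ac2d35b68e0), (nat_lit 0xefab98dc23675410), (nat_lit 0x9cd8afeb27631450), (nat_lit 0xfedcab8967453210), (nat_lit 0x23dcab546798ef10), (nat_lit 0xdcfe89ab67453210), (nat_lit 0xcdefab8954763210), (nat_lit 0xbf518c629d73ae40), (nat_lit 0xba89dcef45762310), (nat_lit 0x9ba85764dfec1320), (nat_lit 0x1a83d64fe57c29b0), (nat_lit 0x1eb4d278963c5af0), (nat_lit 0x89dcfeab32674510), (nat_lit 0xefcdab8976543210)],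
    [[.l 26, .l 15, .l 11, .l 4, .l 3, .l 2, .l 1],
    [.l 4, .l 3, .l 2, .l 1],
    [.l 26, .l 15, .l 11],
    [.l 11],
    [.l 21, .l 22, .l 11],
    [.l 15],
    [.l 25, .l 15],
    [.l 6, .l 5, .l 4, .l 3, .l 2, .l 1],
    [.l 9, .l 8, .l 4, .l 3, .l 2, .l 1],
    [.l 16, .l 15],
    [.l 17, .l 15],
    [.l 18, .l 15],
    [.l 3, .l 2, .l 1],
    [.l 12, .l 11],
    [.l 19, .l 24, .l 23]],
    [h16_L0, h16_L1, h16_L2, h16_L3, h16_L4, h16_L5, h16_L6, h16_L7, h16_L8, h16_L9, h16_L10, h16_L11, h16_L12, h16_L13, h16_L14], [h16_D0, h16_D1, h16_D2, h16_D3, h16_D4, h16_D5, h16_D6, h16_D7, h16_D8, h16_D9, h16_D10, h16_D11, h16_D12, h16_D13, h16_D14]⟩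

instance h16_ne : NeZero h16.n := ⟨by decide⟩

theorem h16_ok0 : h16.ok0 = true := by decide +kernel

theorem h16_k0 : allFrom (nat_lit 0) (nat_lit 1) h16.okK = true := by decide +kernel

theorem h16_k1 : allFrom (nat_lit 1) (nat_lit 1) h16.okK = true := by decide +kernel

theorem h16_k2 : allFrom (nat_lit 2) (nat_lit 1) h16.okK = true := by decide +kernel

theorem h16_k3 : allFrom (nat_lit 3) (nat_lit 1) h16.okK = true := by decide +kernel

theorem h16_k4 : allFrom (nat_lit 4) (nat_lit 1) h16.okK = true := by decide +kernel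

theorem h16_k5 : allFrom (nat_lit 5) (nat_lit 1) h16.okK = true := by decide +kernel

theorem h16_k6 : allFrom (nat_lit 6) (nat_lit 1) h16.okK = true := by decide +kernel

theorem h16_k7 : allFrom (nat_lit 7) (nat_lit 1) h16.okK = true := by decide +kernel

theorem h16_k8 : allFrom (nat_lit 8) (nat_lit 1) h16.okK = true := by decide +kernel

theorem h16_k9 : allFrom (nat_lit 9) (nat_lit 1) h16.okK = true := by decide +kernel

theorem h16_k10 : allFrom (nat_lit 10) (nat_lit 1) h16.okK = true := by decide +kernel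

theorem h16_k11 : allFrom (nat_lit 11) (nat_lit 1) h16.okK = true := by decide +kernel

theorem h16_k12 : allFrom (nat_lit 12) (nat_lit 1) h16.okK = true := by decide +kernel

theorem h16_k13 : allFrom (nat_lit 13) (nat_lit 1) h16.okK = true := by decide +kernel

theorem h16_k14 : allFrom (nat_lit 14) (nat_lit 1) h16.okK = true := by decide +kernel

theorem h16_ok : h16.OK := PM.OK.of_check h16_ok0
  (of_allFrom_append (of_allFrom_append (of_allFrom_append (of_allFrom_append (of_allFrom_append (of_allFrom_append (of_allFrom_append (of_allFrom_append (of_allFrom_append (of_allFrom_append (of_allFrom_append (of_allFrom_append (of_allFrom_append (of_allFrom_append (of_allFrom_append of_lt_zero h16_k0) h16_k1) h16_k2) h16_k3) h16_k4) h16_k5) h16_k6) h16_k7) h16_k8) h16_k9) h16_k10) h16_k11) h16_k12) h16_k13) h16_k14)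


end Cfsg.Lib.G14
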