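import Cfsg.Agent.Lib.G14.Def2
import Cfsg.Agent.Lib.PF.Main

/-!
# S3114, reduction I: the frame `N(Q) → N(Q)/O(N(Q))` (helper11)
-/

set_option autoImplicit false

namespace Cfsg.Lib.G14

open Cfsg.Lib.BG Cfsg.Lib.N8 Subgroup
open QuotientGroup (mk')

variable {G : Type*} [Group G]

theorem two_of_mem {R : Subgroup G} (hR : IsPGroup 2 R) {x : G} (hx : x ∈ R) : Two x :=
  let ⟨n, e⟩ := hR ⟨x, hx⟩; ⟨n, congrArg Subtype.val e⟩

theorem Two.pg {x : G} (h : Two x) : IsPGroup 2 (zpowers x) := by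
  obtain ⟨n, e⟩ := h
  rintro ⟨_, k, rfl⟩
  exact ⟨n, Subtype.ext (by
    change (x ^ k) ^ 2 ^ n = 1
    rw [← zpow_natCast, ← zpow_mul, mul_comm, zpow_mul, zpow_natCast, e, one_zpow])⟩

variable [Finite G]

theorem exP (T : Subgroup G) [T.Normal] (hT : IsPGroup 2 T) :
    ∃ P, Syl 2 P (pPrimePCore 2 G) ∧ T ≤ P ∧ pPrimeCore 2 G ⊔ P = pPrimePCore 2 G :=
  let ⟨P, h1, h2⟩ := Syl.exists_ge hT ((Core.le_pCore inferInstance hT).trans (Core.pCore_le_pPrimePCore 2 G))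
  ⟨P, h1, h2, Core.pPrimeCore_sup_eq_pPrimePCore h1.le h1.not_dvd'⟩

theorem CC.sol {A : Subgroup G} (h : CC A) (hA : IsPGroup 2 A) : Group.IsSolvable 𝐂(A) := by
  have := normal_subgroupOf_of_le_normalizer (cent_le_norm A)
  refine Core.isSolvable_of_normal_quotient (A.subgroupOf 𝐂(A)) (pgroup_sol (hA.comap_subtype))
    (PF.isSolvable_of_odd _ ?_)
  obtain ⟨P, hP⟩ := Syl.exists 2 𝐂(A)
  rw [← Nat.not_even_iff_odd, even_iff_two_dvd]
  exact fun e => hP.not_dvd' (e.trans (relIndex_dvd_of_le_left _ fun x hx =>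
    h x (hP.le hx) (two_of_mem hP.pgroup hx)))

theorem CC.con {A : Subgroup G} (h : CC A) (hA : IsPGroup 2 A) : IsPConstrained 2 𝐍(A) := by
  obtain ⟨P, h1, h2, h3⟩ := exP (A.subgroupOf 𝐍(A)) hA.comap_subtype
  refine Core.isPConstrained_of_isPSolvable_centralizer h1.pgroup h3 (Core.isPSolvable_of_isSolvable
    ((Core.isSolvable_map_iff (subtype_injective _)).1 (sol_of_le (h.sol hA) ?_)))
  rintro _ ⟨x, hx, rfl⟩
  exact mem_cent.2 fun a ha => congrArg Subtype.val (mem_cent.1 hx ⟨a, le_norm A ha⟩ (h2 ha))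

/-- the frame -/
structure Fm (Q : Subgroup G) {X : Type*} [Group X] (π : 𝐍(Q) →* X) (Y : Subgroup X) : Prop where
  pg : IsPGroup 2 Q
  ne : Q ≠ ⊥
  cc : CC Q
  ns : ¬ Group.IsSolvable 𝐍(Q)
  sur : Function.Surjective π
  inj : ∀ x : 𝐍(Q), Two x.1 → π x = 1 → x = 1
  core : (Q.subgroupOf 𝐍(Q)).map π = Y

theorem exists_fm (hl : ∃ T : Subgroup G, IsPGroup 2 T ∧ T ≠ ⊥ ∧ ¬ Group.IsSolvable 𝐍(T) ∧ IsPConstrained 2 𝐍(T)) :
    ∃ Q : Subgroup G, Fm Q (mk' (oddCore 𝐍(Q))) (pCore 2 _) ∧ IsPConstrained 2 𝐍(Q) ∧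
      ∀ A : Subgroup G, IsPGroup 2 A → Nat.card Q < Nat.card A → CC A → Group.IsSolvable 𝐍(A) := by
  obtain ⟨T, ⟨pg, ne, ns, con⟩, mx⟩ := Set.Finite.exists_maximalFor (fun T : Subgroup G => Nat.card T)
    {T | IsPGroup 2 T ∧ T ≠ ⊥ ∧ ¬ Group.IsSolvable 𝐍(T) ∧ IsPConstrained 2 𝐍(T)} (Set.toFinite _) hl
  have mx' : ∀ A : Subgroup G, IsPGroup 2 A → Nat.card T < Nat.card A → CC A → Group.IsSolvable 𝐍(A) :=
    fun A h1 h2 h3 => by_contra fun h4 => h2.not_ge (mx ⟨h1, fun e => by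
      rw [e, card_bot] at h2; have := Nat.card_pos (α := T); omega, h4, h3.con h1⟩ h2.le)
  obtain ⟨P, h1, h2, h3⟩ := exP (T.subgroupOf 𝐍(T)) pg.comap_subtype
  have h4 := (Core.isPConstrained_iff_of_sup_eq h1.pgroup h3).1 con
  have TP : T ≤ P.map (Subgroup.subtype _) := fun x hx => ⟨⟨x, le_norm T hx⟩, h2 hx, rfl⟩
  have cc : CC (P.map (Subgroup.subtype _)) := fun x hx ⟨n, e⟩ => by
    have xN := cent_le_norm T (cent_anti TP hx)
    have k : (⟨x, xN⟩ : 𝐍(T)) ∈ 𝐂(P) := mem_cent.2 fun y hy => Subtype.ext (mem_cent.1 hx _ ⟨y, hy, rfl⟩)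
    exact ⟨⟨x, xN⟩, h1.ge_of_norm_p' (zpowers_le.2 (h4 k)) (Two.pg ⟨n, Subtype.ext e⟩)
      (zpowers_le.2 (cent_le_norm _ k)) (mem_zpowers _), rfl⟩
  have e : T = P.map (Subgroup.subtype _) := eq_of_le_of_card_le TP (not_lt.1 fun k => ns ?_)
  · have e' : T.subgroupOf 𝐍(T) = P := le_antisymm h2 fun x hx => e.ge ⟨x, hx, rfl⟩
    refine ⟨T, ⟨pg, ne, e ▸ cc, ns, QuotientGroup.mk'_surjective _, fun x ⟨n, k⟩ k' => ?_, ?_⟩, con, mx'⟩
    · exact orderOf_eq_one_iff.1 (Nat.eq_one_of_dvd_coprimes ((Core.pPrimeCore_coprime 2 _).pow_right n)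
        (Subgroup.orderOf_dvd_natCard _ ((QuotientGroup.eq_one_iff x).1 k'))
        (orderOf_dvd_of_pow_eq_one (Subtype.ext k)))
    · rw [e', ← Core.map_pPrimePCore_mk', ← h3, Subgroup.map_sup]
      exact (sup_eq_right.2 (((Subgroup.map_eq_bot_iff _).2 (QuotientGroup.ker_mk' _).ge).trans_le bot_le)).symm
  · rw [← Core.isSolvable_top_iff, ← h1.frattini (Nml.top_iff.2 inferInstance), sup_comm]
    refine Core.isSolvable_sup_of_normal ((Core.isSolvable_map_iff (subtype_injective _)).1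
      (sol_of_le (mx' _ (h1.pgroup.map _) k cc) (map_norm _ inf_le_right))) ?_
    rw [← h3, sup_comm]
    exact Core.isSolvable_sup_of_normal (pgroup_sol h1.pgroup) (PF.isSolvable_of_odd _ (Core.odd_card_oddCore _))

namespace Fm

variable {Q R : Subgroup G} {X : Type*} [Group X] {π : 𝐍(Q) →* X} {E Y : Subgroup X} (h : Fm Q π Y)
include h

omit [Finite G] in
theorem eq (hR : IsPGroup 2 R) {x y : 𝐍(Q)} (hx : x.1 ∈ R) (hy : y.1 ∈ R) (e : π x = π y) : x = y :=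
  mul_inv_eq_one.1 (h.inj _ (two_of_mem hR (mul_mem hx (inv_mem hy))) (by rw [map_mul, map_inv, e, mul_inv_cancel]))

omit [Finite G] in
theorem lift {y : X} (hy : y ∈ Y) : ∃ q : 𝐍(Q), q.1 ∈ Q ∧ π q = y := h.core.ge hy

omit [Finite G] in
theorem im {q : 𝐍(Q)} (hq : q.1 ∈ Q) : π q ∈ Y := h.core.le ⟨q, hq, rfl⟩

omit [Finite G] in
theorem mem {x : 𝐍(Q)} (h1 : Two x.1) (h2 : π x ∈ Y) : x.1 ∈ Q := by
  obtain ⟨q, hq, e⟩ := h.lift h2
  exact h.eq (pgroup_sup h.pg h1.pg (zpowers_le.2 x.2)) (mem_sup_left hq) (mem_sup_right (mem_zpowers _)) e ▸ hq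

omit [Finite G] in
theorem comm (hR : IsPGroup 2 R) {x y : 𝐍(Q)} (hx : x.1 * y * (x.1)⁻¹ ∈ R) (hy : y.1 ∈ R) (e : π x * π y = π y * π x) :
    x.1 * y = y * x :=
  mul_inv_eq_iff_eq_mul.1 (congrArg Subtype.val (h.eq hR (x := x * y * x⁻¹) hx hy (by
    rw [map_mul, map_mul, map_inv, e, mul_inv_cancel_right])))

theorem nc (H : Hy G) {S : Subgroup G} (hS : Syl 2 S ⊤) {q : 𝐍(Q)} (hq : q.1 ∈ Q) (qS : q.1 ∈ S) (q1 : π q ≠ 1)
    (q2 : π q * π q = 1) (c : S ≤ 𝐂[q.1]) : ¬ ∀ g, cj g (π q) = π q := fun k =>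
  h.ns (sol_of_le (H.sol' hS (fun e => q1 (by rw [show q = 1 from Subtype.ext e, map_one]))
    (congrArg Subtype.val (h.eq h.pg (x := q * q) (y := 1) (mul_mem hq hq) (one_mem _) (by rw [map_mul, q2, map_one])))
    qS fun x hx => mem_cent1.1 (c hx)) fun x hx => mem_cent1.2
      (h.comm h.pg (x := ⟨x, hx⟩) (conj_mem_of_norm hx hq) hq (mul_inv_eq_iff_eq_mul.1 (k _))))

theorem zc (H : Hy G) {S : Subgroup X} (hS : IsPGroup 2 S) :
    ∃ w ∈ Y, w ≠ 1 ∧ w * w = 1 ∧ S ≤ 𝐂[w] ∧ ¬ ∀ g, cj g w = w := by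
  have := Finite.of_surjective π h.sur
  obtain ⟨S₁, h1⟩ := hS.exists_le_sylow
  obtain ⟨P, rfl⟩ := Sylow.mapSurjective_surjective h.sur 2 S₁
  obtain ⟨T, hT, h2⟩ := Syl.exists_ge (pgroup_sup h.pg (P.2.map (Subgroup.subtype _)) (map_subtype_le _)) le_top
  obtain ⟨w, w1, w2, w3⟩ := PGroup.exists_mem_centralizer_orderOf_eq hT.pgroup hT.pgroup (le_norm T)
    fun e => h.ne (eq_bot_iff.2 (le_sup_left.trans (h2.trans e.le)))
  have wQ := h.cc w (cent_anti (le_sup_left.trans h2) w2) (two_of_mem hT.pgroup w1)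
  rw [Inv.ord_two_iff] at w3
  have k1 : π ⟨w, le_norm Q wQ⟩ ≠ 1 := fun e => w3.1 (congrArg Subtype.val (h.inj _ (two_of_mem hT.pgroup w1) e))
  have k2 : π ⟨w, le_norm Q wQ⟩ * π ⟨w, le_norm Q wQ⟩ = 1 := by
    rw [← map_mul, ← map_one π]; exact congrArg π (Subtype.ext w3.2)
  refine ⟨_, h.im wQ, k1, k2, fun s hs => ?_, h.nc H hT wQ w1 k1 k2 (le_cent1_iff.2 w2)⟩
  obtain ⟨x, hx, rfl⟩ := h1 hs
  rw [mem_cent1, ← map_mul, ← map_mul]
  exact congrArg π (Subtype.ext (mem_cent.1 w2 _ (h2 (mem_sup_right ⟨x, hx, rfl⟩))))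

theorem zc2 (H : Hy G) (hE : ∀ x, x * x = 1 ↔ x ∈ E) (EY : E ≤ Y) (cE : 𝐂(E) = Y) {t : X} (tE : t ∈ E) (t1 : t ≠ 1) :
    ¬ ∀ g, cj g t = t := by
  obtain ⟨R, hR⟩ := Syl.exists 2 𝐍(Q)
  have QR := hR.ge_of_norm_p (le_norm Q) h.pg hR.le
  obtain ⟨q, hq, rfl⟩ := h.lift (EY tE)
  intro ct
  refine h.nc H (hR.of_norm_le le_top fun g hg => norm_of fun x hx => ?_) hq (QR hq) t1 ((hE _).2 tE)
    (fun x hx => mem_cent1.2 (h.comm h.pg (x := ⟨x, hR.le hx⟩) (conj_mem_of_norm (hR.le hx) hq) hq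
      (mul_inv_eq_iff_eq_mul.1 (ct _)))) ct
  have k := cj_mem hg.2 (QR hx)
  refine h.mem (x := ⟨_, hR.le k⟩) (two_of_mem hR.pgroup k) (cE.le (mem_cent.2 fun e he => ?_))
  obtain ⟨e, eQ, rfl⟩ := h.lift (EY he)
  have e2 : e.1 * e = 1 := congrArg Subtype.val
    (h.eq h.pg (x := e * e) (y := 1) (mul_mem eQ eQ) (one_mem _) (by rw [map_mul, (hE _).2 he, map_one]))
  have k1 := cj_mem (inv_mem hg.2) (QR eQ)
  have k2 := h.comm hR.pgroup (x := ⟨_, hR.le k1⟩) (y := ⟨x, le_norm Q hx⟩)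
    (mul_mem (mul_mem k1 (QR hx)) (inv_mem k1)) (QR hx) (mem_cent.1 (cE.ge (h.im hx)) _ ((hE _).1 (by
      rw [← map_mul, ← map_one π]
      exact congrArg π (Subtype.ext ((map_mul (cj g⁻¹) _ _).symm.trans (by rw [e2, map_one]; rfl))))))
  rw [← map_mul, ← map_mul]
  refine congrArg π (Subtype.ext ?_)
  have := congrArg (cj g) k2
  rwa [map_mul, map_mul, cj_cj, mul_inv_cancel, cj_def (1 : G), one_mul, inv_one, mul_one] at this

omit [Finite G] in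
theorem card : Nat.card Q = Nat.card Y := by
  rw [← h.core, ← Nat.card_congr (subgroupOfEquivOfLe (le_norm Q)).toEquiv]
  exact Nat.card_congr (Equiv.ofBijective (π.subgroupMap _) ⟨fun x y e =>
    Subtype.ext (h.eq h.pg x.2 y.2 (congrArg Subtype.val e)), π.subgroupMap_surjective _⟩)

omit [Finite G] in
theorem ea (k : IsElementaryAbelian 2 Y) : IsElementaryAbelian 2 Q :=
  ⟨abelian_iff.2 (le_cent_iff.2 fun x hx y hy => h.comm h.pg (x := ⟨x, le_norm Q hx⟩) (y := ⟨y, le_norm Q hy⟩)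
    (mul_mem (mul_mem hx hy) (inv_mem hx)) hy (le_cent_iff.1 (abelian_iff.1 k.1) _ (h.im hx) _ (h.im hy))),
    fun x hx => congrArg Subtype.val (h.eq h.pg (x := ⟨x, le_norm Q hx⟩ ^ 2) (y := 1) (pow_mem hx 2) (one_mem _)
      (by rw [map_pow, k.2 _ (h.im hx), map_one]))⟩

omit [Finite G] in
theorem au [Y.Normal] (c : 𝐂(Y) = Y) : Nonempty (X ⧸ Y ≃* Au Q) := by
  have e : ((mk' Y).comp π).ker = Q.normalizerMonoidHom.ker := by
    ext x
    rw [normalizerMonoidHom_ker, MonoidHom.mem_ker, MonoidHom.comp_apply, QuotientGroup.mk'_apply,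
      QuotientGroup.eq_one_iff, ← c, mem_subgroupOf, mem_cent, mem_cent]
    refine ⟨fun k q hq => (h.comm h.pg (y := ⟨q, le_norm Q hq⟩) (conj_mem_of_norm x.2 hq) hq
      (k _ (h.im hq)).symm).symm, fun k y hy => ?_⟩
    obtain ⟨q, hq, rfl⟩ := h.lift hy
    rw [← map_mul, ← map_mul]
    exact congrArg π (Subtype.ext (k _ hq))
  exact ⟨(QuotientGroup.quotientKerEquivOfSurjective ((mk' Y).comp π) ((QuotientGroup.mk'_surjective Y).comp h.sur)).symm.trans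
    ((QuotientGroup.quotientMulEquivOfEq e).trans (QuotientGroup.quotientKerEquivRange _))⟩

end Fm

end Cfsg.Lib.G14
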